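import Cfsg.Agent.Mrg.ParSys.Fam.Rgd
import Cfsg.Agent.Mrg.Omega.EH3Close.CThree.Short
import Cfsg.Agent.Mrg.Omega.EH3Close.Numb
import Cfsg.Agent.Nodes.SimplyLaced
import Cfsg.Agent.Mrg.Omega.Tools.SE
import Cfsg.Agent.Mrg.Nodes.RGDAllP
import Cfsg.Agent.Mrg.Omega.EH3.Kf.Two
import Cfsg.Agent.Omega.EH3.Basic
import Cfsg.Agent.KFacts.RgdBorelTits
import Cfsg.Agent.Nodes.NormX

-- merged: Cfsg.Agent.Mrg.Omega.EH3Close.LocSL
section

section


/-!
# The local quadratic bound, simply laced rows (helper805)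

`D : Star.Mod cs h T n X ρ a i` of type `A₅` (`i = 2`), `D₆` (`i = 4, 5`), `E₇` (`i = 6`), all root groups of order 2;
`Ab ≤ U` abelian, normal in `U`, quadratic on `V`: `|Ab| ≤ 2^5, 2^10, 2^17`.
-/

set_option autoImplicit false
set_option linter.unusedSectionVars false

namespace Cfsg.Agent.Omega.EH3Close.LocSL

open CoxeterSystem Cfsg.Agent.ChevalleyStructure.CoxeterGeom Cfsg.Agent.Tits.Roots Cfsg.Agent.Tits.Core
  Cfsg.Agent.Tits.RootComb Cfsg.Agent.Nodes.Comb Cfsg.Agent.Nodes.Reps Cfsg.Agent.Nodes.BNOf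
  Cfsg.Agent.Nodes.StabComb Cfsg.Agent.Nodes.Bruhat Cfsg.Agent.Nodes.LeviDec Cfsg.Agent.Nodes.Coroot
  Cfsg.Agent.ParSys.RootCount Cfsg.Agent.ParSys.RootExc
  Cfsg.Agent.KFacts.RgdSL Cfsg.Agent.Omega.EH3Close.LeadU Cfsg.Agent.Omega.EH3Close.RgdLead
  Cfsg.Agent.Omega.EH3Close.Roots
open Cfsg.Agent.LieRecognition.BNCox (cA)
open scoped commutatorElement

/-! ### Generalities -/

section General

variable {I W Y : Type*} [Fintype I] [DecidableEq I] [Group W] [Group Y] {M : CoxeterMatrix I}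
  {cs : CoxeterSystem M W} {A : I → I → ℤ} {h : IsCartan M A} {p : ℕ} {T : Subgroup Y} {n : I → Y}
  {X : (I → ℤ) → Subgroup Y}

/-- the positive roots are in the list -/
theorem mem_of_pos {Rt : Finset (I → ℤ)} (hR : PosRoots A Rt) {x : I → ℤ} (hx : x ∈ RGD.Pos cs h) : x ∈ Rt := by
  obtain ⟨⟨w, i, rfl⟩, h0⟩ := hx
  rcases hR.rep_mem h cs w _ (hR.simple_mem i) with h1 | h1
  · exact h1
  · exfalso
    have h2 := hR.pos _ h1
    have h3 : rep cs h w (sr i) = 0 := le_antisymm (neg_nonneg.1 h2) h0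
    exact hR.ne (by rw [← neg_zero, ← h3]; exact h1)

/-- the Cartan numbers of a simply laced system -/
theorem cpr_eq [Finite W] (hs : SL cs h) {x y : I → ℤ} (hx : IsRoot cs h x) (hy : IsRoot cs h y) :
    cpr cs h x y = ∑ k, y k * pairing A k x := by
  have h1 : y = ∑ k, y k • sr k := by
    funext j
    rw [Finset.sum_apply]
    simp [sr, Pi.single_apply]
  have h2 : ∀ s : Finset I, cpr cs h (∑ k ∈ s, y k • sr k) x = ∑ k ∈ s, y k * pairing A k x := by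
    intro s
    induction s using Finset.induction_on with
    | empty =>
      rw [Finset.sum_empty, Finset.sum_empty]
      have := cpr_smul cs h 0 x hx
      rwa [zero_smul, zero_mul] at this
    | insert b s hb ih =>
      rw [Finset.sum_insert hb, Finset.sum_insert hb, cpr_add cs h _ _ hx, ih, cpr_smul cs h _ _ hx,
        hs _ _ (isRoot_sr cs h b) hx, cpr_sr]
  rw [hs x y hx hy]
  nth_rewrite 1 [h1]
  exact h2 _

/-- `x + y` a root, `x`, `y` positive: `⟨x, y⟩ = -1` -/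
theorem cpr_of_add [Finite W] (hs : SL cs h) {x y : I → ℤ} (hx : x ∈ RGD.Pos cs h) (hy : y ∈ RGD.Pos cs h)
    (hxy : IsRoot cs h (x + y)) : cpr cs h x y = -1 := by
  have h1 := cpr_add cs h x y hy.1
  rw [cpr_self cs h hy.1] at h1
  have h2 : x + y ≠ y := fun h0 => hx.1.ne_zero (add_eq_right.1 h0)
  have h3 : x + y ≠ -y := by
    intro h0
    have h4 : 0 ≤ x + y := add_nonneg hx.2 hy.2
    rw [h0] at h4
    exact hy.1.not_pos_neg hy.2 (neg_nonneg.1 h4)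
  have h4 := hs.abs_le hxy hy.1 h2 h3
  rcases hs.cases hx.1 hy.1 with ⟨-, h5⟩ | ⟨h0, -⟩ | ⟨-, -, h5, h6⟩
  · omega
  · exfalso
    have := hx.2
    rw [h0] at this
    exact hy.1.not_pos_neg hy.2 (neg_nonneg.1 this)
  · omega

/-- a chain of simple reflections, checked step by step -/
def chk (A : I → I → ℤ) (x : I → ℤ) : List (I × (I → ℤ)) → (I → ℤ) → Prop
  | [], y => x = y
  | (j, v) :: l, y => (∀ k, v k = x k - (if k = j then pairing A j x else 0)) ∧ chk A v l y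

theorem rep_of_chk {x y : I → ℤ} {l : List (I × (I → ℤ))} (hl : chk A x l y) :
    rep cs h (cs.wordProd (l.map Prod.fst).reverse) x = y := by
  induction l generalizing x with
  | nil =>
    rw [List.map_nil, List.reverse_nil, wordProd_nil, map_one, Module.End.one_apply]
    exact hl
  | cons b l ih =>
    obtain ⟨j, v⟩ := b
    obtain ⟨h1, h2⟩ := hl
    have h3 : rep cs h (cs.simple j) x = v := by
      rw [rep_simple_eq]
      funext k
      rw [h1 k, Pi.sub_apply, Pi.smul_apply, smul_eq_mul]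
      by_cases hk : k = j
      · subst hk
        rw [if_pos rfl, sr_self, mul_one]
      · rw [if_neg hk, sr_ne hk, mul_zero]
    rw [List.map_cons, List.reverse_cons, wordProd_append, wordProd_singleton, rep_mul_apply, h3]
    exact ih h2

theorem word_mem {J : Set I} {l : List I} (hl : ∀ j ∈ l, j ∈ J) : cs.wordProd l ∈ WJ cs J := by
  induction l with
  | nil => rw [wordProd_nil]; exact one_mem _
  | cons j l ih =>
    rw [wordProd_cons]
    exact mul_mem (Cfsg.Agent.Tits.Exchange.simple_mem_WJ cs (hl j (List.mem_cons_self)))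
      (ih fun k hk => hl k (List.mem_cons_of_mem _ hk))

end General

/-! ### The abstract bound -/

section Abs

variable {k : ℕ} {W Y V : Type*} [Group W] [Group Y] [AddCommGroup V] [Module (ZMod 2) V]
  {M : CoxeterMatrix (Fin k)} {cs : CoxeterSystem M W} {A : Fin k → Fin k → ℤ} {h : IsCartan M A}
  {T : Subgroup Y} {n : Fin k → Y} {X : (Fin k → ℤ) → Subgroup Y}

/-- the data of a row -/
structure Dat (A : Fin k → Fin k → ℤ) (L reps : List (Fin k → ℤ)) (i : Fin k) (J : Finset (Fin k)) (θ β : Fin k → ℤ)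
    (lb lt : List (Fin k × (Fin k → ℤ))) : Prop where
  iJ : i ∈ J
  top : ∀ x ∈ L, x = θ ∨ ∃ j, pairing A j x = -1
  topJ : ∀ x ∈ L, (∀ j, j ∉ J → x j = 0) → x = β ∨ ∃ j ∈ J, pairing A j x = -1
  hb : chk A (Pi.single i 1) lb β
  ht : chk A (Pi.single i 1) lt θ
  lb : ∀ b ∈ lb, b.1 ∈ J ∧ b.1 ≠ i
  lt : ∀ b ∈ lt, b.1 ≠ i
  orth : ∑ j, β j * pairing A j θ = 0
  reps : ∀ x ∈ L, (∃ j, j ∉ J ∧ 0 < x j) → ∃ r ∈ reps, x = r ∨ x + r = θ

variable [Finite W] {ρ : Y →* (V ≃ₗ[ZMod 2] V)} {a : V} {i : Fin k} (D : Star.Mod cs h T n X ρ a i)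
  (hs : SL cs h) (h2 : ∀ j, Nat.card (X (sr j)) = 2)

theorem X_comm' (R : RGD cs h 2 T n X) (h2 : ∀ j, Nat.card (X (sr j)) = 2) {x : Fin k → ℤ} (hx : IsRoot cs h x) :
    Nat.card (X x) = 2 ∧ ∀ a ∈ X x, ∀ b ∈ X x, a * b = b * a := by
  have h3 : Nat.card (X x) = 2 := by
    obtain ⟨w, i, rfl⟩ := hx
    obtain ⟨g, hg⟩ := exists_rp cs R.nsys w
    rw [← R.conj_rp hg (isRoot_sr cs h i), ← h2 i]
    exact (Nat.card_congr ((X (sr i)).equivMapOfInjective _ (MulAut.conj g).injective).toEquiv).symm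
  refine ⟨h3, ?_⟩
  have : IsCyclic (X x) := isCyclic_of_prime_card (p := 2) h3
  intro a ha b hb
  have h4 := IsCyclic.isMulCommutative (α := X x)
  exact congrArg Subtype.val (h4.is_comm.comm (⟨a, ha⟩ : X x) ⟨b, hb⟩)

include D hs h2

theorem card_le [Finite Y] {L reps : List (Fin k → ℤ)} {J : Finset (Fin k)} {θ β : Fin k → ℤ}
    {lb lt : List (Fin k × (Fin k → ℤ))} (E : Dat A L reps i J θ β lb lt) (hR : PosRoots A L.toFinset)
    {Ab : Subgroup Y} (hA : Ab ≤ RGD.Sup X (RGD.Pos cs h)) (hc : ∀ x ∈ Ab, ∀ y ∈ Ab, x * y = y * x)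
    (hn : ∀ g ∈ RGD.Sup X (RGD.Pos cs h), ∀ x ∈ Ab, g * x * g⁻¹ ∈ Ab)
    (hqd : ∀ x ∈ Ab, ∀ y ∈ Ab, ∀ v, ρ x (ρ y v + v) = ρ y v + v) : Nat.card Ab ≤ 2 ^ reps.length := by
  classical
  have R := D.rgd
  obtain ⟨g, c, fn⟩ := exists_fn (cs := cs) (h := h) i
  have hab : ∀ x, IsRoot cs h x → ∀ a ∈ X x, ∀ b ∈ X x, a * b = b * a := fun x hx => (X_comm' R h2 hx).2
  have C := com R hs fn hab
  have hL : ∀ {x}, x ∈ RGD.Pos cs h → x ∈ L := fun hx => List.mem_toFinset.1 (mem_of_pos hR hx)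
  -- the roots `θ`, `β`
  have hθ : θ = rep cs h (cs.wordProd (lt.map Prod.fst).reverse) (sr i) := (rep_of_chk E.ht).symm
  have hβ : β = rep cs h (cs.wordProd (lb.map Prod.fst).reverse) (sr i) := (rep_of_chk E.hb).symm
  have hθr : IsRoot cs h θ := ⟨_, _, hθ⟩
  have hβr : IsRoot cs h β := ⟨_, _, hβ⟩
  -- climbing
  have step : ∀ {x j}, x ∈ RGD.Pos cs h → pairing A j x = -1 → x + sr j ∈ RGD.Pos cs h ∧
      g (x + sr j) = g x + g (sr j) ∧ 0 < g (sr j) := by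
    intro x j hx hj
    have hsj : sr j ∈ RGD.Pos cs h := ⟨isRoot_sr cs h j, sr_nonneg j⟩
    have h3 : cpr cs h x (sr j) = -1 := by rw [cpr_sr]; exact hj
    have h4 := isRoot_add hx.1 hsj.1 h3
    exact ⟨⟨h4, add_nonneg hx.2 hsj.2⟩, fn.add x hx _ hsj, fn.pos _ hsj⟩
  have lead : ∀ {x j}, x ∈ RGD.Pos cs h → pairing A j x = -1 → Ld (PF cs h) X g Ab x →
      Ld (PF cs h) X g Ab (x + sr j) := by
    rintro x j hx hj ⟨u, hu, hu1, hu2⟩
    have hsj : sr j ∈ RGD.Pos cs h := ⟨isRoot_sr cs h j, sr_nonneg j⟩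
    have h3 : cpr cs h x (sr j) = -1 := by rw [cpr_sr]; exact hj
    obtain ⟨b, hb, w, hw, rfl⟩ := C.exists_mul (mem_PF.2 hx) hu1
    have hb1 : b ≠ 1 := by
      rintro rfl
      rw [one_mul] at hu2
      exact hu2 hw
    obtain ⟨y, hy, hy1⟩ : ∃ y ∈ X (sr j), y ≠ 1 := by
      by_contra hcon
      push Not at hcon
      have h4 := (Subgroup.eq_bot_iff_forall _).2 hcon
      have h5 := h2 j
      rw [h4, Subgroup.card_bot] at h5
      omega
    have hyU : y ∈ U (PF cs h) X g (g (sr j)) := le_U (mem_PF.2 hsj) le_rfl hy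
    have hyP : y ∈ RGD.Sup X (RGD.Pos cs h) := RGD.le_Sup hsj hy
    refine ⟨⁅b * w, y⁆, ?_, ?_, ?_⟩
    · have e : ⁅b * w, y⁆ = (b * w) * (y * (b * w)⁻¹ * y⁻¹) := by rw [commutatorElement_def]; group
      rw [e]
      exact mul_mem hu (hn y hyP _ (inv_mem hu))
    · rw [fn.add x hx _ hsj]
      exact C.comm_mem hu1 hyU
    · intro h4
      refine comm_not_mem R hs fn hx hsj h3 hb hb1 hy hy1 ?_
      rw [fn.add x hx _ hsj] at h4 ⊢
      refine C.comm_lead (le_U (mem_PF.2 hx) le_rfl hb) hyU hw (one_mem _) ?_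
      rwa [mul_one]
  -- maximality of `θ`
  have hmaxθ : θ ∈ RGD.Pos cs h ∧ ∀ x ∈ RGD.Pos cs h, g x ≤ g θ := by
    obtain ⟨x, hx, hmax⟩ := Finset.exists_max_image (PF cs h) g ⟨sr i, mem_PF.2 ⟨isRoot_sr cs h i, sr_nonneg i⟩⟩
    rw [mem_PF] at hx
    rcases E.top x (hL hx) with h3 | ⟨j, hj⟩
    · rw [← h3]
      exact ⟨hx, fun y hy => hmax y (mem_PF.2 hy)⟩
    · exfalso
      obtain ⟨h4, h5, h6⟩ := step hx hj
      have := hmax _ (mem_PF.2 h4)
      omega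
  -- maximality of `β`
  have hmaxβ : β ∈ RGD.Pos cs h ∧ ∀ x ∈ PosJ cs h (J : Set (Fin k)), g x ≤ g β := by
    let PJf := (PF cs h).filter fun x => ∀ j, j ∉ J → x j = 0
    have hmem : ∀ {x}, x ∈ PJf ↔ x ∈ RGD.Pos cs h ∧ ∀ j, j ∉ J → x j = 0 := by
      intro x
      rw [Finset.mem_filter, mem_PF]
    obtain ⟨x, hx, hmax⟩ := Finset.exists_max_image PJf g ⟨sr i, hmem.2 ⟨⟨isRoot_sr cs h i, sr_nonneg i⟩, fun j hj =>
      sr_ne (fun h0 => hj (h0 ▸ E.iJ))⟩⟩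
    rw [hmem] at hx
    rcases E.topJ x (hL hx.1) hx.2 with h3 | ⟨j, hjJ, hj⟩
    · rw [← h3]
      exact ⟨hx.1, fun y hy => hmax y (hmem.2 ⟨⟨hy.1, hy.2.1⟩, fun j hj => hy.2.2 j hj⟩)⟩
    · exfalso
      obtain ⟨h4, h5, h6⟩ := step hx.1 hj
      have := hmax _ (hmem.2 ⟨h4, fun l hl => by
        rw [Pi.add_apply, hx.2 l hl, sr_ne (show l ≠ j from fun h0 => hl (h0 ▸ hjJ)), add_zero]⟩)
      omega
  -- `U (g θ + 1) = 1`
  have hUθ : U (PF cs h) X g (g θ + 1) = ⊥ := by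
    rw [eq_bot_iff]
    refine U_le fun x hx hk => ?_
    have := hmaxθ.2 x (mem_PF.1 hx)
    omega
  have hU0 : RGD.Sup X (RGD.Pos cs h) ≤ U (PF cs h) X g 0 :=
    RGD.Sup_le fun x hx => le_U (mem_PF.2 hx) (Nat.zero_le _)
  -- no leading root in `J`
  have hno : ∀ x, x ∈ RGD.Pos cs h → Ld (PF cs h) X g Ab x → x ∈ NotJ cs h (J : Set (Fin k)) := by
    intro x₀ hx₀ hl₀
    by_contra hx₀J
    have hx₀J' := (mem_PosJ_or_NotJ (J : Set (Fin k)) hx₀.1 hx₀.2).resolve_right hx₀J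
    -- `θ` is leading
    have hlθ : Ld (PF cs h) X g Ab θ := by
      obtain ⟨x, hx, hmax⟩ := Finset.exists_max_image ((PF cs h).filter fun x => Ld (PF cs h) X g Ab x) g
        ⟨x₀, Finset.mem_filter.2 ⟨mem_PF.2 hx₀, hl₀⟩⟩
      obtain ⟨hx, hl⟩ := Finset.mem_filter.1 hx
      rw [mem_PF] at hx
      rcases E.top x (hL hx) with h3 | ⟨j, hj⟩
      · rwa [← h3]
      · exfalso
        obtain ⟨h4, h5, h6⟩ := step hx hj
        have := hmax _ (Finset.mem_filter.2 ⟨mem_PF.2 h4, lead hx hj hl⟩)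
        omega
    -- `β` is leading
    have hlβ : Ld (PF cs h) X g Ab β := by
      obtain ⟨x, hx, hmax⟩ := Finset.exists_max_image
        ((PF cs h).filter fun x => Ld (PF cs h) X g Ab x ∧ ∀ j, j ∉ J → x j = 0) g
        ⟨x₀, Finset.mem_filter.2 ⟨mem_PF.2 hx₀, hl₀, fun j hj => hx₀J'.2.2 j hj⟩⟩
      obtain ⟨hx, hl, hz⟩ := Finset.mem_filter.1 hx
      rw [mem_PF] at hx
      rcases E.topJ x (hL hx) hz with h3 | ⟨j, hjJ, hj⟩
      · rwa [← h3]
      · exfalso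
        obtain ⟨h4, h5, h6⟩ := step hx hj
        have := hmax _ (Finset.mem_filter.2 ⟨mem_PF.2 h4, lead hx hj hl, fun l hl' => by
          rw [Pi.add_apply, hz l hl', sr_ne (show l ≠ j from fun h0 => hl' (h0 ▸ hjJ)), add_zero]⟩)
        omega
    obtain ⟨z, hz, hz1, hz2⟩ := hlθ
    obtain ⟨z', hz', w, hw, rfl⟩ := C.exists_mul (mem_PF.2 hmaxθ.1) hz1
    rw [hUθ, Subgroup.mem_bot] at hw hz2
    subst hw
    rw [mul_one] at hz hz1 hz2
    obtain ⟨u, hu, hu1, hu2⟩ := hlβ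
    obtain ⟨x, hx, y, hy, rfl⟩ := C.exists_mul (mem_PF.2 hmaxβ.1) hu1
    have hx1 : x ≠ 1 := by
      rintro rfl
      rw [one_mul] at hu2
      exact hu2 hy
    have hyV : y ∈ VJ cs h X (J : Set (Fin k)) := by
      have h3 : U (PF cs h) X g (g β + 1) ≤ VJ cs h X (J : Set (Fin k)) := by
        refine U_le fun x hx hk => ?_
        rw [mem_PF] at hx
        rcases mem_PosJ_or_NotJ (J : Set (Fin k)) hx.1 hx.2 with h4 | h4
        · exfalso
          have := hmaxβ.2 x h4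
          omega
        · exact RGD.le_Sup h4
      exact h3 hy
    have hub : cs.wordProd (lb.map Prod.fst).reverse ∈ WJ cs ((J : Set (Fin k)) \ {i}) := by
      refine word_mem fun j hj => ?_
      rw [List.mem_reverse, List.mem_map] at hj
      obtain ⟨b, hb, rfl⟩ := hj
      exact ⟨Finset.mem_coe.2 (E.lb b hb).1, (E.lb b hb).2⟩
    have hut : cs.wordProd (lt.map Prod.fst).reverse ∈ WJ cs ({i} : Set (Fin k))ᶜ := by
      refine word_mem fun j hj => ?_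
      rw [List.mem_reverse, List.mem_map] at hj
      obtain ⟨b, hb, rfl⟩ := hj
      exact E.lt b hb
    have ho : rep cs h (cs.wordProd (lb.map Prod.fst).reverse * cs.simple i *
        (cs.wordProd (lb.map Prod.fst).reverse)⁻¹) (rep cs h (cs.wordProd (lt.map Prod.fst).reverse) (sr i)) =
        rep cs h (cs.wordProd (lt.map Prod.fst).reverse) (sr i) := by
      have h3 := rep_rfl'_eq cs h (cs.wordProd (lb.map Prod.fst).reverse) i θ
      rw [← hβ, cpr_eq hs hθr hβr, E.orth, zero_smul, sub_zero] at h3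
      rw [← hθ]
      exact h3
    rw [hθ] at hz'
    rw [hβ] at hx
    obtain ⟨v, hv⟩ := D.kill (Finset.mem_coe.2 E.iJ) hub hut ho hz' hz2 hx hx1 hyV
    exact hv (hqd _ hu _ hz v)
  -- the count
  obtain ⟨c', hc'⟩ := exists_U_eq_bot (PF cs h) X g
  have h3 := C.relIndex_le (V := Ab) (hA.trans hU0) c'
  rw [hc', Subgroup.relIndex_bot_left] at h3
  refine h3.trans ?_
  have h4 : ∏ x ∈ Psi (PF cs h) X g Ab c', Nat.card (X x) = 2 ^ (Psi (PF cs h) X g Ab c').card := by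
    rw [← Finset.prod_const]
    refine Finset.prod_congr rfl fun x hx => ?_
    rw [mem_Psi, mem_PF] at hx
    exact (X_comm' R h2 hx.1.1).1
  rw [h4]
  refine Nat.pow_le_pow_right (by norm_num) ?_
  -- pairs
  have hpair : ∀ x ∈ Psi (PF cs h) X g Ab c', ∀ y ∈ Psi (PF cs h) X g Ab c', cpr cs h x y ≠ -1 := by
    intro x hx y hy h5
    rw [mem_Psi, mem_PF] at hx hy
    obtain ⟨hx, -, u, hu, hu1, hu2⟩ := hx
    obtain ⟨hy, -, u', hu', hu1', hu2'⟩ := hy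
    obtain ⟨b, hb, w, hw, rfl⟩ := C.exists_mul (mem_PF.2 hx) hu1
    obtain ⟨d, hd, w', hw', rfl⟩ := C.exists_mul (mem_PF.2 hy) hu1'
    have hb1 : b ≠ 1 := by
      rintro rfl
      rw [one_mul] at hu2
      exact hu2 hw
    have hd1 : d ≠ 1 := by
      rintro rfl
      rw [one_mul] at hu2'
      exact hu2' hw'
    refine comm_not_mem R hs fn hx hy h5 hb hb1 hd hd1 ?_
    rw [fn.add x hx y hy]
    refine C.comm_lead (le_U (mem_PF.2 hx) le_rfl hb) (le_U (mem_PF.2 hy) le_rfl hd) hw hw' ?_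
    rw [commutatorElement_eq_one_iff_mul_comm.2 (hc _ hu _ hu')]
    exact one_mem _
  have hrep : ∀ x : Psi (PF cs h) X g Ab c', ∃ r ∈ reps.toFinset, (x : Fin k → ℤ) = r ∨ (x : Fin k → ℤ) + r = θ := by
    rintro ⟨x, hx⟩
    have hx' := hx
    rw [mem_Psi, mem_PF] at hx'
    have h5 := hno x hx'.1 hx'.2.2
    obtain ⟨j, hj, hj0⟩ := h5.2.2
    obtain ⟨r, hr, h6⟩ := E.reps x (hL hx'.1) ⟨j, fun h0 => hj (Finset.mem_coe.2 h0), hj0⟩
    exact ⟨r, List.mem_toFinset.2 hr, h6⟩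
  choose f hf hf' using hrep
  have h5 : (Psi (PF cs h) X g Ab c').card ≤ reps.toFinset.card := by
    rw [← Finset.card_attach]
    refine Finset.card_le_card_of_injOn f (fun x _ => hf x) ?_
    intro x _ y _ hxy
    have hxm := (mem_Psi.1 x.2).1
    have hym := (mem_Psi.1 y.2).1
    rw [mem_PF] at hxm hym
    have key : ∀ x y : Psi (PF cs h) X g Ab c', (x : Fin k → ℤ) + y ≠ θ := by
      intro x y h6
      have hxm := (mem_Psi.1 x.2).1
      have hym := (mem_Psi.1 y.2).1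
      rw [mem_PF] at hxm hym
      exact hpair _ x.2 _ y.2 (cpr_of_add hs hxm hym (by rw [h6]; exact hθr))
    rcases hf' x with h6 | h6 <;> rcases hf' y with h7 | h7
    · exact Subtype.ext (by rw [h6, h7, hxy])
    · exfalso
      rw [← hxy, ← h6, add_comm] at h7
      exact key x y h7
    · exfalso
      rw [hxy, ← h7] at h6
      exact key x y h6
    · exact Subtype.ext (by
        rw [hxy] at h6
        exact add_right_cancel (h6.trans h7.symm))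
  exact h5.trans (List.toFinset_card_le _)

end Abs

end Cfsg.Agent.Omega.EH3Close.LocSL

end

section


/-!
# The local quadratic bound, the rows `A₅` (2), `D₆` (4, 5), `E₇` (6) (helper805)

`|Ab| ≤ 2^5, 2^10, 2^17`.
-/

set_option autoImplicit false
set_option linter.unusedSectionVars false

namespace Cfsg.Agent.Omega.EH3Close.LocRow

open CoxeterSystem Cfsg.Agent.ChevalleyStructure.CoxeterGeom Cfsg.Agent.Tits.Roots Cfsg.Agent.Tits.Core
  Cfsg.Agent.Tits.RootComb Cfsg.Agent.Nodes.Comb Cfsg.Agent.Nodes.Reps Cfsg.Agent.Nodes.BNOf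
  Cfsg.Agent.Nodes.StabComb Cfsg.Agent.Nodes.Bruhat Cfsg.Agent.Nodes.LeviDec Cfsg.Agent.Nodes.Coroot
  Cfsg.Agent.ParSys.RootCount Cfsg.Agent.ParSys.RootExc Cfsg.Agent.KFacts.RgdSL
  Cfsg.Agent.Omega.EH3Close.Roots Cfsg.Agent.Omega.EH3Close.Numb Cfsg.Agent.Omega.EH3Close.LocSL
open Cfsg.Agent.LieRecognition.BNCox (cA)

instance decChk {k : ℕ} (A : Fin k → Fin k → ℤ) (x : Fin k → ℤ) :
    (l : List (Fin k × (Fin k → ℤ))) → (y : Fin k → ℤ) → Decidable (chk A x l y)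
  | [], y => inferInstanceAs (Decidable (x = y))
  | (j, v) :: l, y =>
    have := decChk A v l y
    inferInstanceAs (Decidable ((∀ k, v k = x k - (if k = j then pairing A j x else 0)) ∧ chk A v l y))

/-- representatives -/
def PA5 : List (Fin 5 → ℤ) := [![0, 0, 0, 0, 1],
  ![1, 0, 0, 0, 0],
  ![0, 0, 0, 1, 1],
  ![1, 1, 0, 0, 0],
  ![1, 1, 1, 1, 1]]

/-- the chain to `β` -/
def BA5 : List (Fin 5 × (Fin 5 → ℤ)) := [(1, ![0, 1, 1, 0, 0]),
  (3, ![0, 1, 1, 1, 0])]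

/-- the chain to `θ` -/
def TA5 : List (Fin 5 × (Fin 5 → ℤ)) := [(1, ![0, 1, 1, 0, 0]),
  (0, ![1, 1, 1, 0, 0]),
  (3, ![1, 1, 1, 1, 0]),
  (4, ![1, 1, 1, 1, 1])]

theorem dat_A5 : Dat AA5 LA5 PA5 2 {1, 2, 3} ![1, 1, 1, 1, 1] ![0, 1, 1, 1, 0] BA5 TA5 where
  iJ := by decide
  top := by decide +kernel
  topJ := by decide +kernel
  hb := by decide +kernel
  ht := by decide +kernel
  lb := by decide +kernel
  lt := by decide +kernel
  orth := by decide +kernel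
  reps := by decide +kernel

/-- representatives -/
def PD6 : List (Fin 6 → ℤ) := [![0, 1, 0, 0, 0, 0],
  ![1, 0, 0, 0, 0, 0],
  ![0, 1, 1, 0, 0, 0],
  ![1, 1, 0, 0, 0, 0],
  ![0, 1, 1, 1, 0, 0],
  ![1, 1, 1, 0, 0, 0],
  ![0, 1, 1, 1, 0, 1],
  ![0, 1, 1, 1, 1, 0],
  ![1, 1, 1, 1, 0, 0],
  ![1, 2, 2, 2, 1, 1]]

/-- the chain to `β` -/
def BD6 : List (Fin 6 × (Fin 6 → ℤ)) := [(3, ![0, 0, 0, 1, 1, 0]),
  (2, ![0, 0, 1, 1, 1, 0]),
  (5, ![0, 0, 1, 1, 1, 1]),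
  (3, ![0, 0, 1, 2, 1, 1])]

/-- the chain to `θ` -/
def TD6 : List (Fin 6 × (Fin 6 → ℤ)) := [(3, ![0, 0, 0, 1, 1, 0]),
  (2, ![0, 0, 1, 1, 1, 0]),
  (1, ![0, 1, 1, 1, 1, 0]),
  (0, ![1, 1, 1, 1, 1, 0]),
  (5, ![1, 1, 1, 1, 1, 1]),
  (3, ![1, 1, 1, 2, 1, 1]),
  (2, ![1, 1, 2, 2, 1, 1]),
  (1, ![1, 2, 2, 2, 1, 1])]

theorem dat_D6 : Dat AD6 LD6 PD6 4 {2, 3, 4, 5} ![1, 2, 2, 2, 1, 1] ![0, 0, 1, 2, 1, 1] BD6 TD6 where
  iJ := by decide
  top := by decide +kernel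
  topJ := by decide +kernel
  hb := by decide +kernel
  ht := by decide +kernel
  lb := by decide +kernel
  lt := by decide +kernel
  orth := by decide +kernel
  reps := by decide +kernel

/-- representatives -/
def PD6p : List (Fin 6 → ℤ) := [![0, 1, 0, 0, 0, 0],
  ![1, 0, 0, 0, 0, 0],
  ![0, 1, 1, 0, 0, 0],
  ![1, 1, 0, 0, 0, 0],
  ![0, 1, 1, 1, 0, 0],
  ![1, 1, 1, 0, 0, 0],
  ![0, 1, 1, 1, 0, 1],
  ![0, 1, 1, 1, 1, 0],
  ![1, 1, 1, 1, 0, 0],
  ![1, 2, 2, 2, 1, 1]]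

/-- the chain to `β` -/
def BD6p : List (Fin 6 × (Fin 6 → ℤ)) := [(3, ![0, 0, 0, 1, 0, 1]),
  (2, ![0, 0, 1, 1, 0, 1]),
  (4, ![0, 0, 1, 1, 1, 1]),
  (3, ![0, 0, 1, 2, 1, 1])]

/-- the chain to `θ` -/
def TD6p : List (Fin 6 × (Fin 6 → ℤ)) := [(3, ![0, 0, 0, 1, 0, 1]),
  (2, ![0, 0, 1, 1, 0, 1]),
  (1, ![0, 1, 1, 1, 0, 1]),
  (0, ![1, 1, 1, 1, 0, 1]),
  (4, ![1, 1, 1, 1, 1, 1]),
  (3, ![1, 1, 1, 2, 1, 1]),
  (2, ![1, 1, 2, 2, 1, 1]),
  (1, ![1, 2, 2, 2, 1, 1])]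

theorem dat_D6p : Dat AD6 LD6 PD6p 5 {2, 3, 4, 5} ![1, 2, 2, 2, 1, 1] ![0, 0, 1, 2, 1, 1] BD6p TD6p where
  iJ := by decide
  top := by decide +kernel
  topJ := by decide +kernel
  hb := by decide +kernel
  ht := by decide +kernel
  lb := by decide +kernel
  lt := by decide +kernel
  orth := by decide +kernel
  reps := by decide +kernel

/-- representatives -/
def PE7 : List (Fin 7 → ℤ) := [![1, 0, 0, 0, 0, 0, 0],
  ![1, 0, 1, 0, 0, 0, 0],
  ![1, 0, 1, 1, 0, 0, 0],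
  ![1, 0, 1, 1, 1, 0, 0],
  ![1, 1, 1, 1, 0, 0, 0],
  ![1, 0, 1, 1, 1, 1, 0],
  ![1, 1, 1, 1, 1, 0, 0],
  ![1, 0, 1, 1, 1, 1, 1],
  ![1, 1, 1, 1, 1, 1, 0],
  ![1, 1, 1, 2, 1, 0, 0],
  ![1, 1, 1, 1, 1, 1, 1],
  ![1, 1, 1, 2, 1, 1, 0],
  ![1, 1, 2, 2, 1, 0, 0],
  ![1, 1, 1, 2, 1, 1, 1],
  ![1, 1, 1, 2, 2, 1, 0],
  ![1, 1, 2, 2, 1, 1, 0],
  ![2, 2, 3, 4, 3, 2, 1]]

/-- the chain to `β` -/
def BE7 : List (Fin 7 × (Fin 7 → ℤ)) := [(5, ![0, 0, 0, 0, 0, 1, 1]),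
  (4, ![0, 0, 0, 0, 1, 1, 1]),
  (3, ![0, 0, 0, 1, 1, 1, 1]),
  (1, ![0, 1, 0, 1, 1, 1, 1]),
  (2, ![0, 1, 1, 1, 1, 1, 1]),
  (3, ![0, 1, 1, 2, 1, 1, 1]),
  (4, ![0, 1, 1, 2, 2, 1, 1]),
  (5, ![0, 1, 1, 2, 2, 2, 1])]

/-- the chain to `θ` -/
def TE7 : List (Fin 7 × (Fin 7 → ℤ)) := [(5, ![0, 0, 0, 0, 0, 1, 1]),
  (4, ![0, 0, 0, 0, 1, 1, 1]),
  (3, ![0, 0, 0, 1, 1, 1, 1]),
  (1, ![0, 1, 0, 1, 1, 1, 1]),
  (2, ![0, 1, 1, 1, 1, 1, 1]),
  (0, ![1, 1, 1, 1, 1, 1, 1]),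
  (3, ![1, 1, 1, 2, 1, 1, 1]),
  (2, ![1, 1, 2, 2, 1, 1, 1]),
  (4, ![1, 1, 2, 2, 2, 1, 1]),
  (3, ![1, 1, 2, 3, 2, 1, 1]),
  (1, ![1, 2, 2, 3, 2, 1, 1]),
  (5, ![1, 2, 2, 3, 2, 2, 1]),
  (4, ![1, 2, 2, 3, 3, 2, 1]),
  (3, ![1, 2, 2, 4, 3, 2, 1]),
  (2, ![1, 2, 3, 4, 3, 2, 1]),
  (0, ![2, 2, 3, 4, 3, 2, 1])]

theorem dat_E7 : Dat AE7 LE7 PE7 6 {1, 2, 3, 4, 5, 6} ![2, 2, 3, 4, 3, 2, 1] ![0, 1, 1, 2, 2, 2, 1] BE7 TE7 where
  iJ := by decide
  top := by decide +kernel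
  topJ := by decide +kernel
  hb := by decide +kernel
  ht := by decide +kernel
  lb := by decide +kernel
  lt := by decide +kernel
  orth := by decide +kernel
  reps := by decide +kernel

section

variable {W Y V : Type*} [Group W] [Group Y] [AddCommGroup V] [Module (ZMod 2) V] [Finite W] [Finite Y]
  {ρ : Y →* (V ≃ₗ[ZMod 2] V)} {a : V}

theorem card_A5 {cs : CoxeterSystem (cA 5) W} {A : Fin 5 → Fin 5 → ℤ} {h : IsCartan (cA 5) A} {T : Subgroup Y}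
    {n : Fin 5 → Y} {X : (Fin 5 → ℤ) → Subgroup Y} (D : Star.Mod cs h T n X ρ a 2)
    (h2 : ∀ j, Nat.card (X (sr j)) = 2) {Ab : Subgroup Y} (hA : Ab ≤ RGD.Sup X (RGD.Pos cs h))
    (hc : ∀ x ∈ Ab, ∀ y ∈ Ab, x * y = y * x) (hn : ∀ g ∈ RGD.Sup X (RGD.Pos cs h), ∀ x ∈ Ab, g * x * g⁻¹ ∈ Ab)
    (hqd : ∀ x ∈ Ab, ∀ y ∈ Ab, ∀ v, ρ x (ρ y v + v) = ρ y v + v) : Nat.card Ab ≤ 2 ^ 5 := by
  have e : A = AA5 := cartan_eq h isCartan_A5 ne_A5.1 ne_A5.2
  subst e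
  exact LocSL.card_le D (fun _ _ hx hy => Nodes.SimplyLaced.cpr_symm cs h ne_A5.1 ne_A5.2 hx hy) h2 dat_A5 posRoots_A5 hA hc hn hqd

theorem card_D6 {cs : CoxeterSystem (Nodes.TypeD.M 4) W} {A : Fin 6 → Fin 6 → ℤ} {h : IsCartan (Nodes.TypeD.M 4) A} {T : Subgroup Y}
    {n : Fin 6 → Y} {X : (Fin 6 → ℤ) → Subgroup Y} (D : Star.Mod cs h T n X ρ a 4)
    (h2 : ∀ j, Nat.card (X (sr j)) = 2) {Ab : Subgroup Y} (hA : Ab ≤ RGD.Sup X (RGD.Pos cs h))
    (hc : ∀ x ∈ Ab, ∀ y ∈ Ab, x * y = y * x) (hn : ∀ g ∈ RGD.Sup X (RGD.Pos cs h), ∀ x ∈ Ab, g * x * g⁻¹ ∈ Ab)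
    (hqd : ∀ x ∈ Ab, ∀ y ∈ Ab, ∀ v, ρ x (ρ y v + v) = ρ y v + v) : Nat.card Ab ≤ 2 ^ 10 := by
  have e : A = AD6 := cartan_eq h isCartan_D6 ne_D6.1 ne_D6.2
  subst e
  exact LocSL.card_le D (fun _ _ hx hy => Nodes.SimplyLaced.cpr_symm cs h ne_D6.1 ne_D6.2 hx hy) h2 dat_D6 posRoots_D6 hA hc hn hqd

theorem card_D6p {cs : CoxeterSystem (Nodes.TypeD.M 4) W} {A : Fin 6 → Fin 6 → ℤ} {h : IsCartan (Nodes.TypeD.M 4) A} {T : Subgroup Y}
    {n : Fin 6 → Y} {X : (Fin 6 → ℤ) → Subgroup Y} (D : Star.Mod cs h T n X ρ a 5)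
    (h2 : ∀ j, Nat.card (X (sr j)) = 2) {Ab : Subgroup Y} (hA : Ab ≤ RGD.Sup X (RGD.Pos cs h))
    (hc : ∀ x ∈ Ab, ∀ y ∈ Ab, x * y = y * x) (hn : ∀ g ∈ RGD.Sup X (RGD.Pos cs h), ∀ x ∈ Ab, g * x * g⁻¹ ∈ Ab)
    (hqd : ∀ x ∈ Ab, ∀ y ∈ Ab, ∀ v, ρ x (ρ y v + v) = ρ y v + v) : Nat.card Ab ≤ 2 ^ 10 := by
  have e : A = AD6 := cartan_eq h isCartan_D6 ne_D6.1 ne_D6.2
  subst e
  exact LocSL.card_le D (fun _ _ hx hy => Nodes.SimplyLaced.cpr_symm cs h ne_D6.1 ne_D6.2 hx hy) h2 dat_D6p posRoots_D6 hA hc hn hqd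

theorem card_E7 {cs : CoxeterSystem (CoxeterMatrix.E₇) W} {A : Fin 7 → Fin 7 → ℤ} {h : IsCartan (CoxeterMatrix.E₇) A} {T : Subgroup Y}
    {n : Fin 7 → Y} {X : (Fin 7 → ℤ) → Subgroup Y} (D : Star.Mod cs h T n X ρ a 6)
    (h2 : ∀ j, Nat.card (X (sr j)) = 2) {Ab : Subgroup Y} (hA : Ab ≤ RGD.Sup X (RGD.Pos cs h))
    (hc : ∀ x ∈ Ab, ∀ y ∈ Ab, x * y = y * x) (hn : ∀ g ∈ RGD.Sup X (RGD.Pos cs h), ∀ x ∈ Ab, g * x * g⁻¹ ∈ Ab)
    (hqd : ∀ x ∈ Ab, ∀ y ∈ Ab, ∀ v, ρ x (ρ y v + v) = ρ y v + v) : Nat.card Ab ≤ 2 ^ 17 := by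
  have e : A = AE7 := cartan_eq h isCartan_E7 ne_E7.1 ne_E7.2
  subst e
  exact LocSL.card_le D (fun _ _ hx hy => Nodes.SimplyLaced.cpr_symm cs h ne_E7.1 ne_E7.2 hx hy) h2 dat_E7 posRoots_E7 hA hc hn hqd

end

end Cfsg.Agent.Omega.EH3Close.LocRow

end

end

-- merged: Cfsg.Agent.Mrg.Omega.EH3Close.AtLoc
section

section


/-!
# The closing theorem, the local bound in `H` (helper805)

`D : At p q i h L T n X`:
* `mod` : the module structure `Star.Mod` of `L`;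
* `le_conj`, `card_le`, `card_le_mul` : 2-subgroups of `L` and of `p.H`;
* `quad_gen` : a bound for the abelian normal quadratic subgroups of `U` bounds those of a Sylow 2-subgroup of `p.H`.
-/

set_option autoImplicit false
set_option linter.unusedSectionVars false

namespace Cfsg.Agent.Omega.EH3Close.AtLoc

open CoxeterSystem Cfsg.Agent.ChevalleyStructure.CoxeterGeom Cfsg.Agent.Tits.Roots Cfsg.Agent.Tits.Core
  Cfsg.Agent.Tits.RootComb Cfsg.Agent.Nodes.Comb Cfsg.Agent.Nodes.Reps Cfsg.Agent.Nodes.BNOf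
  Cfsg.Agent.Nodes.StabComb Cfsg.Agent.Nodes.Bruhat Cfsg.Agent.Nodes.LeviDec Cfsg.Agent.Nodes.NormalForm
  Cfsg.Agent.Omega.EH3 Cfsg.Agent.Co2Type.Quad Cfsg.Agent.LargeExtra.Base
  Cfsg.Agent.Omega.EH3Close.Glue Cfsg.Agent.Omega.EH3Close.Fin4
open Cfsg.Agent.Omega.EH3.Kf.Goal (Good)

theorem exists_ne {l : ℕ} {M : CoxeterMatrix (Fin l)} {q : Fin l → ℕ} {i : Fin l} (hg : Good M q i) : ∃ j, j ≠ i := by
  cases hg
  · exact ⟨0, by decide⟩
  · exact ⟨0, by decide⟩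
  · exact ⟨0, by decide⟩
  · exact ⟨0, by decide⟩
  · exact ⟨0, by decide⟩

variable {G : Type*} [Group G] {Q A : Subgroup G} {z a : G} [Finite G] {p : Pair Q z A a} {l : ℕ}
  {M : CoxeterMatrix (Fin l)} {q : Fin l → ℕ} {i : Fin l} {A' : Fin l → Fin l → ℤ} {h : IsCartan M A'}
  {L : Subgroup p.H} {T : Subgroup L} {n : Fin l → L} {X : (Fin l → ℤ) → Subgroup L} {w : ℕ}

theorem finite_H : Finite p.H := Finite.of_surjective _ (aH_surj p)

/-- the module of `L` -/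
noncomputable def rho (p : Pair Q z A a) (L : Subgroup p.H) : L →* (p.lz.V ≃ₗ[ZMod 2] p.lz.V) :=
  (p.H.subtype).comp L.subtype

theorem rho_apply (g : L) (v : p.lz.V) : rho p L g v = ((g : p.H) : p.lz.V ≃ₗ[ZMod 2] p.lz.V) v := rfl

theorem mod (C : Cfg (p.H.subtype : p.H →* (p.lz.V ≃ₗ[ZMod 2] p.lz.V)) p.lz.b p.lz.q p.va p.D (p.X.subgroupOf p.H) w)
    (D : At p q i h L T n X) : Star.Mod M.toCoxeterSystem h T n X (rho p L) p.va i := by
  have := finite_H (p := p)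
  have := D.fin
  obtain ⟨j, hj⟩ := exists_ne D.good
  have hq2 : q i = 2 := (num D.good D.rgd D.card).1
  have hB : ∀ g ∈ RGD.B M.toCoxeterSystem h T X, rho p L g p.va = p.va := fun g hg =>
    D.fix j hj g (B_le_PJ hg)
  refine ⟨D.rgd, C.a_ne, hB, fun k hk => D.fix k hk _ (OfRGD.n_mem D.rgd k), by rw [D.card, hq2], ?_, D.cent⟩
  intro hfix
  obtain ⟨g, hg, hga⟩ := Two.exists_move C D.normal D.odd
  apply hga
  let St : Subgroup L := {
    carrier := {g | rho p L g p.va = p.va}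
    one_mem' := Star.rone _ _
    mul_mem' := fun {x y} hx hy => by
      show rho p L (x * y) p.va = p.va
      rw [Star.rmul, show rho p L y p.va = p.va from hy]
      exact hx
    inv_mem' := fun {x} hx => Star.rinv _ hx }
  have h1 : ∀ k, PJ M.toCoxeterSystem h T X {k} ≤ St := by
    intro k g hg
    by_cases hk : k = i
    · subst hk
      by_cases hgB : g ∈ RGD.B M.toCoxeterSystem h T X
      · exact hB g hgB
      · obtain ⟨u, hu, b, hb, rfl⟩ := OfRGD.exists_form D.rgd hg hgB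
        have hu' : u ∈ RGD.B M.toCoxeterSystem h T X := RGD.X_le_B (isRoot_sr _ h k) (sr_nonneg k) hu
        exact mul_mem (mul_mem (show u ∈ St from hB u hu') (show n k ∈ St from hfix)) (show b ∈ St from hB b hb)
    · exact D.fix k hk g hg
  have h2 : (⊤ : Subgroup L) ≤ St := by
    rw [← OfRGD.gen_top D.rgd D.gen]
    exact sup_le (fun g hg => hB g hg) (iSup_le h1)
  exact h2 (Subgroup.mem_top (⟨g, hg⟩ : L))

/-- 2-subgroups of `L` -/
theorem le_conj (D : At p q i h L T n X) {K : Subgroup L} (hK : IsPGroup 2 K) :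
    ∃ g : L, ∀ k ∈ K, g * k * g⁻¹ ∈ RGD.Sup X (RGD.Pos M.toCoxeterSystem h) := by
  have := finite_H (p := p)
  have := D.fin
  obtain ⟨P, hP⟩ := hK.exists_le_sylow
  obtain ⟨S, hS⟩ := (D.rgd.isPGroup_Upos (cs := M.toCoxeterSystem) (h := h)).exists_le_sylow
  have hSU : (S : Subgroup L) = RGD.Sup X (RGD.Pos M.toCoxeterSystem h) :=
    eq_U_of_isPGroup D.rgd S.isPGroup' hS (by rw [D.gen]; exact le_top)
  obtain ⟨g, hg⟩ := MulAction.exists_smul_eq L P S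
  refine ⟨g, fun k hk => ?_⟩
  rw [← hSU]
  rw [← hg, Sylow.coe_subgroup_smul]
  exact ⟨k, hP hk, rfl⟩

theorem card_le (D : At p q i h L T n X) {K : Subgroup L} (hK : IsPGroup 2 K) :
    Nat.card K ≤ Nat.card (RGD.Sup X (RGD.Pos M.toCoxeterSystem h)) := by
  have := finite_H (p := p)
  obtain ⟨g, hg⟩ := le_conj D hK
  exact Nat.card_le_card_of_injective
    (fun k : K => (⟨g * k * g⁻¹, hg k k.2⟩ : RGD.Sup X (RGD.Pos M.toCoxeterSystem h))) fun x y e => by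
      have h1 : g * x * g⁻¹ = g * y * g⁻¹ := congrArg Subtype.val e
      exact Subtype.ext (mul_left_cancel (mul_right_cancel h1))

/-- the index -/
theorem index_le (C : Cfg (p.H.subtype : p.H →* (p.lz.V ≃ₗ[ZMod 2] p.lz.V)) p.lz.b p.lz.q p.va p.D (p.X.subgroupOf p.H) w)
    (D : At p q i h L T n X) : L.index ≤ 2 := by
  have := finite_H (p := p)
  have := D.fin
  have := D.normal
  exact Kf.Idx.index_le_two C.inj C.irr C.a_ne D.good D.odd D.rgd D.gen D.fix D.card D.cent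

/-- `|K| ≤ |H : L| |K ∩ L|` -/
theorem card_le_index (K : Subgroup p.H) : Nat.card K ≤ L.index * Nat.card (K ⊓ L : Subgroup p.H) := by
  have := finite_H (p := p)
  have h1 := Quad.card_inf_mul_relIndex L K
  rw [← h1, mul_comm]
  refine Nat.mul_le_mul_right _ ?_
  rw [← Subgroup.relIndex_top_right]
  exact Subgroup.relIndex_le_of_le_right le_top (Subgroup.index_ne_zero_of_finite)

theorem card_inf_eq (K : Subgroup p.H) : Nat.card (K ⊓ L : Subgroup p.H) = Nat.card (K.subgroupOf L) := by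
  rw [← Subgroup.subgroupOf_map_subtype, Subgroup.card_map_of_injective L.subtype_injective]

theorem card_le_mul (C : Cfg (p.H.subtype : p.H →* (p.lz.V ≃ₗ[ZMod 2] p.lz.V)) p.lz.b p.lz.q p.va p.D (p.X.subgroupOf p.H) w)
    (D : At p q i h L T n X) {K : Subgroup p.H} (hK : IsPGroup 2 K) :
    Nat.card K ≤ 2 * Nat.card (RGD.Sup X (RGD.Pos M.toCoxeterSystem h)) := by
  refine (card_le_index (L := L) K).trans (Nat.mul_le_mul (index_le C D) ?_)
  rw [card_inf_eq]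
  exact card_le D (hK.comap_subtype)

/-- **Transport of the local bound.** -/
theorem quad_gen (D : At p q i h L T n X) {b : ℕ}
    (hb : ∀ Ab : Subgroup L, Ab ≤ RGD.Sup X (RGD.Pos M.toCoxeterSystem h) → (∀ x ∈ Ab, ∀ y ∈ Ab, x * y = y * x) →
      (∀ g ∈ RGD.Sup X (RGD.Pos M.toCoxeterSystem h), ∀ x ∈ Ab, g * x * g⁻¹ ∈ Ab) →
      (∀ x ∈ Ab, ∀ y ∈ Ab, ∀ v, rho p L x (rho p L y v + v) = rho p L y v + v) → Nat.card Ab ≤ b)
    (P : Sylow 2 p.H) {A1 : Subgroup p.H} (h1 : A1 ≤ (P : Subgroup p.H)) (hc : ∀ x ∈ A1, ∀ y ∈ A1, x * y = y * x)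
    (hn : ∀ g ∈ (P : Subgroup p.H), ∀ x ∈ A1, g * x * g⁻¹ ∈ A1)
    (hq : ∀ x ∈ A1, ∀ y ∈ A1, ∀ v, (x : p.lz.V ≃ₗ[ZMod 2] p.lz.V) ((y : p.lz.V ≃ₗ[ZMod 2] p.lz.V) v + v) =
      (y : p.lz.V ≃ₗ[ZMod 2] p.lz.V) v + v) : Nat.card A1 ≤ L.index * b := by
  have := finite_H (p := p)
  have := D.fin
  refine (card_le_index (L := L) A1).trans (Nat.mul_le_mul_left _ ?_)
  -- `U` lies in a Sylow 2-subgroup `P'` conjugate to `P`
  have hU : IsPGroup 2 ((RGD.Sup X (RGD.Pos M.toCoxeterSystem h)).map L.subtype) :=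
    (D.rgd.isPGroup_Upos (cs := M.toCoxeterSystem) (h := h)).map _
  obtain ⟨P', hP'⟩ := hU.exists_le_sylow
  obtain ⟨g, hg⟩ := MulAction.exists_smul_eq p.H P' P
  have hgP : ∀ x ∈ (P' : Subgroup p.H), g * x * g⁻¹ ∈ (P : Subgroup p.H) := by
    intro x hx
    rw [← hg, Sylow.coe_subgroup_smul]
    exact ⟨x, hx, rfl⟩
  have hgP' : ∀ x ∈ (P : Subgroup p.H), g⁻¹ * x * g ∈ (P' : Subgroup p.H) := by
    intro x hx
    rw [← hg, Sylow.coe_subgroup_smul] at hx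
    obtain ⟨y, hy, e⟩ := hx
    have e1 : x = g * y * g⁻¹ := e.symm
    have e2 : g⁻¹ * x * g = y := by rw [e1]; group
    rw [e2]
    exact hy
  have hLn := D.normal
  -- the subgroup
  let Ab : Subgroup L := {
    carrier := {x | g * (x : p.H) * g⁻¹ ∈ A1}
    one_mem' := by
      show g * ((1 : L) : p.H) * g⁻¹ ∈ A1
      rw [Subgroup.coe_one, mul_one, mul_inv_cancel]; exact one_mem _
    mul_mem' := fun {x y} hx hy => by
      show g * ((x * y : L) : p.H) * g⁻¹ ∈ A1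
      have e : g * ((x * y : L) : p.H) * g⁻¹ = (g * (x : p.H) * g⁻¹) * (g * (y : p.H) * g⁻¹) := by
        rw [Subgroup.coe_mul]; group
      rw [e]; exact mul_mem hx hy
    inv_mem' := fun {x} hx => by
      show g * ((x⁻¹ : L) : p.H) * g⁻¹ ∈ A1
      have e : g * ((x⁻¹ : L) : p.H) * g⁻¹ = (g * (x : p.H) * g⁻¹)⁻¹ := by
        rw [Subgroup.coe_inv]; group
      rw [e]; exact inv_mem hx }
  have hmem : ∀ x : L, x ∈ Ab ↔ g * (x : p.H) * g⁻¹ ∈ A1 := fun x => Iff.rfl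
  -- its order
  have hcard : Nat.card (A1 ⊓ L : Subgroup p.H) = Nat.card Ab := by
    refine Nat.card_congr
      { toFun := fun x => ⟨⟨g⁻¹ * (x : p.H) * g, by
            have := hLn.conj_mem _ x.2.2 g⁻¹
            rwa [inv_inv] at this⟩, by
            rw [hmem]
            have e : g * (g⁻¹ * (x : p.H) * g) * g⁻¹ = x := by group
            show g * (g⁻¹ * (x : p.H) * g) * g⁻¹ ∈ A1
            rw [e]; exact x.2.1⟩
        invFun := fun x => ⟨g * ((x : L) : p.H) * g⁻¹, x.2, hLn.conj_mem _ (x : L).2 g⟩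
        left_inv := fun x => Subtype.ext (by
          show g * (g⁻¹ * (x : p.H) * g) * g⁻¹ = x
          group)
        right_inv := fun x => Subtype.ext (Subtype.ext (by
          show g⁻¹ * (g * ((x : L) : p.H) * g⁻¹) * g = ((x : L) : p.H)
          group)) }
  rw [hcard]
  have key : ∀ (x y : p.H) (v : p.lz.V), (x : p.lz.V ≃ₗ[ZMod 2] p.lz.V) ((y : p.lz.V ≃ₗ[ZMod 2] p.lz.V) v) =
      ((x * y : p.H) : p.lz.V ≃ₗ[ZMod 2] p.lz.V) v := fun _ _ _ => rfl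
  refine hb Ab ?_ ?_ ?_ ?_
  · -- `Ab ≤ U`
    have h2 : ((P' : Subgroup p.H).subgroupOf L) = RGD.Sup X (RGD.Pos M.toCoxeterSystem h) := by
      refine eq_U_of_isPGroup D.rgd (P'.isPGroup'.comap_subtype) ?_ (by rw [D.gen]; exact le_top)
      intro x hx
      exact Subgroup.mem_subgroupOf.2 (hP' ⟨x, hx, rfl⟩)
    intro x hx
    rw [← h2, Subgroup.mem_subgroupOf]
    have h3 := hgP' _ (h1 ((hmem x).1 hx))
    have e : g⁻¹ * (g * (x : p.H) * g⁻¹) * g = x := by group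
    rwa [e] at h3
  · intro x hx y hy
    have h2 := hc _ ((hmem x).1 hx) _ ((hmem y).1 hy)
    apply Subtype.ext
    have e1 : g * (x : p.H) * g⁻¹ * (g * (y : p.H) * g⁻¹) = g * ((x : p.H) * y) * g⁻¹ := by group
    have e2 : g * (y : p.H) * g⁻¹ * (g * (x : p.H) * g⁻¹) = g * ((y : p.H) * x) * g⁻¹ := by group
    rw [e1, e2] at h2
    exact mul_left_cancel (mul_right_cancel h2)
  · intro u hu x hx
    rw [hmem] at hx ⊢
    have h2 := hn _ (hgP _ (hP' ⟨u, hu, rfl⟩)) _ hx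
    have e : g * (L.subtype u) * g⁻¹ * (g * (x : p.H) * g⁻¹) * (g * (L.subtype u) * g⁻¹)⁻¹ =
        g * ((u * x * u⁻¹ : L) : p.H) * g⁻¹ := by
      rw [Subgroup.coe_mul, Subgroup.coe_mul, Subgroup.coe_inv]
      show g * (u : p.H) * g⁻¹ * (g * (x : p.H) * g⁻¹) * (g * (u : p.H) * g⁻¹)⁻¹ = _
      group
    rwa [e] at h2
  · intro x hx y hy v
    rw [hmem] at hx hy
    have h2 := hq _ hx _ hy ((g : p.lz.V ≃ₗ[ZMod 2] p.lz.V) v)
    have h3 : ((g * (y : p.H) * g⁻¹ : p.H) : p.lz.V ≃ₗ[ZMod 2] p.lz.V) ((g : p.lz.V ≃ₗ[ZMod 2] p.lz.V) v) =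
        (g : p.lz.V ≃ₗ[ZMod 2] p.lz.V) (((y : p.H) : p.lz.V ≃ₗ[ZMod 2] p.lz.V) v) := by
      rw [key, key]
      congr 2
      group
    rw [h3, ← map_add] at h2
    have h4 : ∀ u : p.lz.V, ((g * (x : p.H) * g⁻¹ : p.H) : p.lz.V ≃ₗ[ZMod 2] p.lz.V) ((g : p.lz.V ≃ₗ[ZMod 2] p.lz.V) u) =
        (g : p.lz.V ≃ₗ[ZMod 2] p.lz.V) (((x : p.H) : p.lz.V ≃ₗ[ZMod 2] p.lz.V) u) := by
      intro u
      rw [key, key]
      congr 2
      group
    rw [h4] at h2
    exact (g : p.lz.V ≃ₗ[ZMod 2] p.lz.V).injective h2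

end Cfsg.Agent.Omega.EH3Close.AtLoc

end

section


/-!
# The closing theorem, the case `|[V, s]| = 4` for `w = 10` (helper805)

`C_{Qs}(z)` has order at least `2^18`, its image in `p.H` has order at least `2^16 = |p.H|₂` and at most one nontrivial
commutator, but `U` has two.
-/

set_option autoImplicit false
set_option linter.unusedSectionVars false

namespace Cfsg.Agent.Omega.EH3Close.FourTen

open CoxeterSystem Cfsg.Agent.ChevalleyStructure.CoxeterGeom Cfsg.Agent.Tits.Roots Cfsg.Agent.Tits.Core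
  Cfsg.Agent.Tits.RootComb Cfsg.Agent.Nodes.Comb Cfsg.Agent.Nodes.Reps Cfsg.Agent.Nodes.BNOf
  Cfsg.Agent.Nodes.StabComb Cfsg.Agent.Nodes.Bruhat Cfsg.Agent.Nodes.LeviDec Cfsg.Agent.Nodes.NormalForm
  Cfsg.Agent.Omega.EH3 Cfsg.Agent.Co2Type.Quad Cfsg.Agent.LargeExtra.Base
  Cfsg.Agent.Omega.EH3Close.Glue Cfsg.Agent.Omega.EH3Close.Fin4 Cfsg.Agent.Omega.EH3Close.AtLoc
open Cfsg.Agent.Omega.EH3.Kf.Goal (Good)
open scoped commutatorElement

variable {G : Type*} [Group G] {Q A : Subgroup G} {z a : G} [Finite G] {p : Pair Q z A a}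

/-- the image of a subgroup of `C_G(z)` in `p.H` -/
noncomputable def img (p : Pair Q z A a) (K : Subgroup G) : Subgroup p.H :=
  (K.subgroupOf (Subgroup.centralizer ({z} : Set G))).map (aH p)

theorem mem_img {K : Subgroup G} {x : p.H} : x ∈ img p K ↔
    ∃ g, ∃ hg : g ∈ Subgroup.centralizer ({z} : Set G), g ∈ K ∧ aH p ⟨g, hg⟩ = x := by
  constructor
  · rintro ⟨⟨g, hg⟩, h1, rfl⟩
    exact ⟨g, hg, h1, rfl⟩
  · rintro ⟨g, hg, h1, rfl⟩
    exact ⟨⟨g, hg⟩, h1, rfl⟩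

theorem ker_eq : (aH p).ker = Q.subgroupOf (Subgroup.centralizer ({z} : Set G)) := by
  ext c
  rw [MonoidHom.mem_ker, Subgroup.mem_subgroupOf]
  constructor
  · intro h
    exact p.lz.mem_of_act c (congrArg Subtype.val h)
  · intro h
    exact Subtype.ext (p.lz.act_mem c h)

theorem card_img {K : Subgroup G} (hK : K ≤ Subgroup.centralizer ({z} : Set G)) :
    Nat.card (img p K) = Q.relIndex K := by
  rw [img, ← Subgroup.relIndex_ker, ker_eq, Subgroup.relIndex_subgroupOf hK]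

variable {l : ℕ} {M : CoxeterMatrix (Fin l)} {q : Fin l → ℕ} {i : Fin l} {A' : Fin l → Fin l → ℤ}
  {h : IsCartan M A'} {L : Subgroup p.H} {T : Subgroup L} {n : Fin l → L} {X : (Fin l → ℤ) → Subgroup L} {w : ℕ}

theorem four_ten
    (C : Cfg (p.H.subtype : p.H →* (p.lz.V ≃ₗ[ZMod 2] p.lz.V)) p.lz.b p.lz.q p.va p.D (p.X.subgroupOf p.H) w)
    (D : At p q i h L T n X) (hw : w = 10) (hU : Nat.card (RGD.Sup X (RGD.Pos M.toCoxeterSystem h)) = 2 ^ 15)
    {V : Subgroup G} {m : G} (o : Quad.Out Q z V m) (h4 : Nat.card o.two.symm.W = 4) : False := by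
  have := finite_H (p := p)
  have := D.fin
  subst hw
  set Qs := Quad.cj m Q with hQs
  set s := m * z * m⁻¹ with hs
  have hls : Large Qs s := Quad.large_cj o.lz m
  have hcQ : Nat.card Q = 2 ^ 21 := by
    have h1 := p.lz.card_eq
    rw [C.card_V] at h1
    rw [h1]
    norm_num
  have hcQs : Nat.card Qs = 2 ^ (16 + 5) := by
    rw [← hcQ]
    exact (Nat.card_congr (Q.equivMapOfInjective _ (MulAut.conj m).injective).toEquiv).symm
  have h1 := CountB.card_B o.two h4 hcQs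
  set B := (Qs ⊓ Subgroup.centralizer ({z} : Set G) : Subgroup G) with hB
  have hBz : B ≤ Subgroup.centralizer ({z} : Set G) := inf_le_right
  have h2 := card_img (p := p) hBz
  have h3 := Quad.card_inf_mul_relIndex Q B
  have h5 : Nat.card (B ⊓ Q : Subgroup G) ≤ 4 := by
    refine le_trans (Nat.card_mono (Set.toFinite _) ?_) (LargeExtra.CC.Dt.card_le o.two)
    exact fun x hx => ⟨hx.2, hx.1.1⟩
  rw [← h2] at h3
  have h6 : 2 ^ 16 ≤ Nat.card (img p B) := by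
    by_contra hcon
    push Not at hcon
    have h7 : Nat.card (B ⊓ Q : Subgroup G) * Nat.card (img p B) ≤ 4 * Nat.card (img p B) := Nat.mul_le_mul_right _ h5
    omega
  have hB2 : IsPGroup 2 (img p B) := by
    have h7 : IsPGroup 2 B := by
      have : IsPGroup 2 Qs := IsPGroup.of_card hcQs
      exact this.to_le inf_le_left
    exact (h7.comap_subtype).map _
  have h7 : Nat.card (img p B) ≤ 2 ^ 16 := by
    have := card_le_mul C D hB2
    rw [hU] at this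
    omega
  -- the commutators
  have hcomm : ∀ x ∈ img p B, ∀ y ∈ img p B, ⁅x, y⁆ = 1 ∨
      ⁅x, y⁆ = aH p ⟨s, Subgroup.mem_centralizer_singleton_iff.2 o.two.comm⟩ := by
    intro x hx y hy
    obtain ⟨g, hg, hgB, rfl⟩ := mem_img.1 hx
    obtain ⟨k, hk, hkB, rfl⟩ := mem_img.1 hy
    rw [← map_commutatorElement]
    rcases hls.comm g hgB.1 k hkB.1 with h8 | h8
    · left
      rw [commutatorElement_eq_one_iff_mul_comm.2 (show (⟨g, hg⟩ : Subgroup.centralizer ({z} : Set G)) * ⟨k, hk⟩ =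
        ⟨k, hk⟩ * ⟨g, hg⟩ from Subtype.ext h8), map_one]
    · right
      congr 1
      apply Subtype.ext
      show g * k * g⁻¹ * k⁻¹ = s
      have h9 : ∀ x ∈ Qs, x * s = s * x := hls.comm_z
      have h10 := h9 k hkB.1
      have h11 := h9 g hgB.1
      rw [h8]
      have e1 : k * g * (m * z * m⁻¹) * g⁻¹ * k⁻¹ = k * (g * s) * g⁻¹ * k⁻¹ := by rw [hs]; group
      rw [e1, h11]
      have e2 : k * (s * g) * g⁻¹ * k⁻¹ = (k * s) * k⁻¹ := by group
      rw [e2, h10]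
      group
  -- Sylow subgroups
  obtain ⟨P1, hP1⟩ := hB2.exists_le_sylow
  have hP1' : Nat.card (P1 : Subgroup p.H) ≤ 2 ^ 16 := by
    have := card_le_mul C D P1.isPGroup'
    rw [hU] at this
    omega
  have hP1e : img p B = (P1 : Subgroup p.H) := Subgroup.eq_of_le_of_card_ge hP1 (hP1'.trans h6)
  have hU2 : IsPGroup 2 ((RGD.Sup X (RGD.Pos M.toCoxeterSystem h)).map L.subtype) :=
    (D.rgd.isPGroup_Upos (cs := M.toCoxeterSystem) (h := h)).map _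
  obtain ⟨P2, hP2⟩ := hU2.exists_le_sylow
  obtain ⟨g, hg⟩ := MulAction.exists_smul_eq p.H P1 P2
  have hgU : ∀ x : L, x ∈ RGD.Sup X (RGD.Pos M.toCoxeterSystem h) → ∃ y ∈ img p B, g * y * g⁻¹ = x := by
    intro x hx
    have h8 : (x : p.H) ∈ (P2 : Subgroup p.H) := hP2 ⟨x, hx, rfl⟩
    rw [← hg, Sylow.coe_subgroup_smul] at h8
    obtain ⟨y, hy, e⟩ := h8
    exact ⟨y, hP1e ▸ hy, e⟩
  set t : p.H := g * aH p ⟨s, Subgroup.mem_centralizer_singleton_iff.2 o.two.comm⟩ * g⁻¹ with ht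
  have hUc : ∀ x ∈ RGD.Sup X (RGD.Pos M.toCoxeterSystem h), ∀ y ∈ RGD.Sup X (RGD.Pos M.toCoxeterSystem h),
      ((⁅x, y⁆ : L) : p.H) = 1 ∨ ((⁅x, y⁆ : L) : p.H) = t := by
    intro x hx y hy
    obtain ⟨x', hx', ex⟩ := hgU x hx
    obtain ⟨y', hy', ey⟩ := hgU y hy
    have e : ((⁅x, y⁆ : L) : p.H) = g * ⁅x', y'⁆ * g⁻¹ := by
      have e1 : ((⁅x, y⁆ : L) : p.H) = ⁅(x : p.H), (y : p.H)⁆ := map_commutatorElement L.subtype x y
      rw [e1, ← ex, ← ey, commutatorElement_def, commutatorElement_def]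
      group
    rcases hcomm x' hx' y' hy' with h8 | h8
    · left; rw [e, h8]; group
    · right; rw [e, h8]
  by_cases htL : t ∈ L
  · obtain ⟨x, hx, y, hy, h8, h9⟩ := UComm.exists_comm D.good D.rgd D.card ⟨t, htL⟩
    rcases hUc x hx y hy with h10 | h10
    · exact h8 (Subtype.ext h10)
    · exact h9 (Subtype.ext h10)
  · obtain ⟨x, hx, y, hy, h8, h9⟩ := UComm.exists_comm D.good D.rgd D.card 1
    rcases hUc x hx y hy with h10 | h10
    · exact h8 (Subtype.ext h10)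
    · apply htL
      rw [← h10]
      exact (⁅x, y⁆ : L).2

end Cfsg.Agent.Omega.EH3Close.FourTen

end

end

-- merged: Cfsg.Agent.Mrg.Omega.EH3Close.CThree.Core
section

/-!
# The row `C₃(4,4,2)`: quadratic normal subgroups (helper635)

`Fac T X` : the facts on the root groups. `card_le` : an abelian quadratic normal subgroup of `U` has order at most `2^5`.
-/

set_option autoImplicit false
set_option linter.unusedSectionVars false
set_option Elab.async false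

namespace Cfsg.Agent.Omega.EH3Close.CThree

open CoxeterSystem Cfsg.Agent.ChevalleyStructure.CoxeterGeom Cfsg.Agent.Tits.Roots Cfsg.Agent.Tits.Core
  Cfsg.Agent.Tits.Exchange Cfsg.Agent.Nodes.Reps Cfsg.Agent.Nodes.BNOf Cfsg.Agent.Nodes.StabComb
  Cfsg.Agent.Nodes.Bruhat Cfsg.Agent.Nodes.OppDec Cfsg.Agent.Nodes.PosPair Cfsg.Agent.Nodes.Coroot
  Cfsg.Agent.Nodes.LeviDec Cfsg.Agent.KFacts.RgdSL Cfsg.Agent.Omega.EH3Close.LeadU
  Cfsg.Agent.Omega.EH3Close.RgdLead Cfsg.Agent.Omega.EH3Close.Roots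

/-! ### Groups -/

section

variable {Y : Type*} [Group Y]

theorem comm_of_card {K : Subgroup Y} (hK : Nat.card K = 4 ∨ Nat.card K = 2) : ∀ u ∈ K, ∀ v ∈ K, u * v = v * u := by
  have key : ∀ u v : K, u * v = v * u := by
    rcases hK with hK | hK
    · have : Fact (Nat.Prime 2) := ⟨Nat.prime_two⟩
      have h1 := IsPGroup.isMulCommutative_of_card_eq_prime_sq (p := 2) (G := K) (by rw [hK]; norm_num)
      exact fun u v => h1.is_comm.comm u v
    · have : Fact (Nat.Prime 2) := ⟨Nat.prime_two⟩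
      have := isCyclic_of_prime_card (p := 2) hK
      intro u v
      exact (IsCyclic.commGroup (α := K)).mul_comm u v
  intro u hu v hv
  exact congrArg Subtype.val (key ⟨u, hu⟩ ⟨v, hv⟩)

/-- the elements commuting with `x` modulo `Z` -/
def cz (Z : Subgroup Y) (x : Y) : Subgroup Y where
  carrier := {y | (∀ z ∈ Z, z * y = y * z) ∧ x * y * x⁻¹ * y⁻¹ ∈ Z}
  one_mem' := ⟨fun z _ => by rw [one_mul, mul_one], by
    have : x * 1 * x⁻¹ * (1 : Y)⁻¹ = 1 := by group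
    rw [this]; exact one_mem _⟩
  mul_mem' := by
    rintro y y' ⟨h1, h2⟩ ⟨h3, h4⟩
    refine ⟨fun z hz => by rw [← mul_assoc, h1 z hz, mul_assoc, h3 z hz, mul_assoc], ?_⟩
    have e : x * (y * y') * x⁻¹ * (y * y')⁻¹ = (x * y * x⁻¹ * y⁻¹) * (y * (x * y' * x⁻¹ * y'⁻¹) * y⁻¹) := by group
    rw [e, ← h1 _ h4, mul_inv_cancel_right]
    exact mul_mem h2 h4
  inv_mem' := by
    rintro y ⟨h1, h2⟩
    have h3 : ∀ z ∈ Z, z * y⁻¹ = y⁻¹ * z := by
      intro z hz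
      calc z * y⁻¹ = y⁻¹ * (y * z) * y⁻¹ := by group
        _ = y⁻¹ * (z * y) * y⁻¹ := by rw [h1 z hz]
        _ = y⁻¹ * z := by group
    refine ⟨h3, ?_⟩
    have e : x * y⁻¹ * x⁻¹ * (y⁻¹)⁻¹ = y⁻¹ * (x * y * x⁻¹ * y⁻¹)⁻¹ * y := by group
    rw [e, ← h3 _ (inv_mem h2), inv_mul_cancel_right]
    exact inv_mem h2

theorem comm_Sup {I : Type*} [Fintype I] [DecidableEq I] {X : (I → ℤ) → Subgroup Y} {S : Set (I → ℤ)} {Z : Subgroup Y}
    (hZ : ∀ z ∈ Z, ∀ r ∈ S, ∀ x ∈ X r, z * x = x * z)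
    (hc : ∀ r ∈ S, ∀ s ∈ S, ∀ x ∈ X r, ∀ y ∈ X s, x * y * x⁻¹ * y⁻¹ ∈ Z) :
    ∀ x ∈ RGD.Sup X S, ∀ y ∈ RGD.Sup X S, x * y * x⁻¹ * y⁻¹ ∈ Z := by
  have h1 : ∀ r ∈ S, ∀ x ∈ X r, ∀ y ∈ RGD.Sup X S, x * y * x⁻¹ * y⁻¹ ∈ Z := by
    intro r hr x hx y hy
    have h2 : RGD.Sup X S ≤ cz Z x := RGD.Sup_le fun s hs y hy => ⟨fun z hz => hZ z hz s hs y hy, hc r hr s hs x hx y hy⟩
    exact (h2 hy).2
  intro x hx y hy
  have h2 : RGD.Sup X S ≤ cz Z x := by
    refine RGD.Sup_le fun s hs w hw => ⟨fun z hz => hZ z hz s hs w hw, ?_⟩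
    have h3 := h1 s hs w hw x hx
    have e : x * w * x⁻¹ * w⁻¹ = (w * x * w⁻¹ * x⁻¹)⁻¹ := by group
    rw [e]; exact inv_mem h3
  exact (h2 hy).2

end

/-! ### The facts -/

variable {W Y : Type*} [Group W] [Group Y] {cs : CoxeterSystem (CoxeterMatrix.B 3) W}
  {h : IsCartan (CoxeterMatrix.B 3) AC3} {T : Subgroup Y} {n : Fin 3 → Y} {X : (Fin 3 → ℤ) → Subgroup Y}

theorem six3 (i j : Fin 3) : CoxeterMatrix.B 3 i j ≠ 6 := by
  show (if i = j then 1 else if (i : ℕ) = 3 - 1 ∧ (j : ℕ) = 3 - 2 ∨ (j : ℕ) = 3 - 1 ∧ (i : ℕ) = 3 - 2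
        then 4 else (if (j : ℕ) + 1 = i ∨ (i : ℕ) + 1 = j then 3 else 2)) ≠ 6
  split_ifs <;> decide

/-- the facts on the root groups -/
structure Fac (T : Subgroup Y) (X : (Fin 3 → ℤ) → Subgroup Y) : Prop where
  c4 : ∀ x ∈ AL, lg x = false → Nat.card (X x) = 4
  c2 : ∀ x ∈ AL, lg x = true → Nat.card (X x) = 2
  tc : ∀ x ∈ AL, lg x = true → ∀ t ∈ T, ∀ v ∈ X x, t * v = v * t
  tt : ∀ x ∈ AL, lg x = false → ∀ u ∈ X x, u ≠ 1 → ∀ u' ∈ X x, u' ≠ 1 → ∃ t ∈ T, t * u * t⁻¹ = u'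
  or4 : ∀ m ∈ AL, ∀ x ∈ AL, cc m x = -2 → cc x m = -1 → ∀ u ∈ X x, u ≠ 1 → ∃ u' ∈ X (m + x), u * u' ≠ u' * u
  lo : ∀ m ∈ AL, ∀ x ∈ AL, cc m x = -2 → cc x m = -1 → ∀ v ∈ X m, v ≠ 1 → ∀ u ∈ X x, u ≠ 1 →
    v * u * v⁻¹ * u⁻¹ ∉ X (m + (2 : ℤ) • x)

theorem lg_of_cc : ∀ m ∈ AL, ∀ x ∈ AL, cc m x = -2 → cc x m = -1 →
    lg m = true ∧ lg x = false ∧ m + (2 : ℤ) • x ∈ AL ∧ lg (m + (2 : ℤ) • x) = true := by decide +kernel

theorem fac [Finite W] (R : RGD cs h 2 T n X) (hq : ∀ j, Nat.card (X (sr j)) = (![4, 4, 2] : Fin 3 → ℕ) j) :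
    Fac T X := by
  have c4 : ∀ x ∈ AL, lg x = false → Nat.card (X x) = 4 := fun x hx hl => card_short R hq (isRoot_iff.2 hx) hl
  have tc : ∀ x ∈ AL, lg x = true → ∀ t ∈ T, ∀ v ∈ X x, t * v = v * t := by
    intro x hx hl t ht v hv
    have h1 := tor_long R hq (isRoot_iff.2 hx) hl ht hv
    calc t * v = t * v * t⁻¹ * t := by group
      _ = v * t := by rw [h1]
  have tt : ∀ x ∈ AL, lg x = false → ∀ u ∈ X x, u ≠ 1 → ∀ u' ∈ X x, u' ≠ 1 → ∃ t ∈ T, t * u * t⁻¹ = u' :=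
    fun x hx hl u hu hu1 u' hu' hu1' => tor_short R (isRoot_iff.2 hx) hl hu hu1 hu' hu1'
  refine ⟨c4, fun x hx hl => card_long R hq (isRoot_iff.2 hx) hl, tc, tt, ?_, ?_⟩
  · intro m hm x hx e1 e2 u hu hu1
    obtain ⟨l1, l2, l3, l4⟩ := lg_of_cc m hm x hx e1 e2
    have r1 : IsRoot cs h m := isRoot_iff.2 hm
    have r2 : IsRoot cs h x := isRoot_iff.2 hx
    exact Orth.exists_not_comm R ⟨r1, r2, by rw [cpr_eq r1 r2, e1], by rw [cpr_eq r2 r1, e2]⟩ (tc m hm l1)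
      (tc _ l3 l4) (tt x hx l2) (by rw [c4 x hx l2]; norm_num) hu hu1
  · intro m hm x hx e1 e2 v hv hv1 u hu hu1
    obtain ⟨l1, l2, l3, l4⟩ := lg_of_cc m hm x hx e1 e2
    have r1 : IsRoot cs h m := isRoot_iff.2 hm
    have r2 : IsRoot cs h x := isRoot_iff.2 hx
    exact not_mem_long R six3 r1 r2 (by rw [cpr_eq r1 r2, e1]) (by rw [cpr_eq r2 r1, e2]) (tc m hm l1)
      (tc _ l3 l4) (tt x hx l2) (by rw [c4 x hx l2]; norm_num) hv hv1 hu hu1

theorem Fac.ab (F : Fac T X) {x : Fin 3 → ℤ} (hx : x ∈ AL) : ∀ u ∈ X x, ∀ v ∈ X x, u * v = v * u := by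
  apply comm_of_card
  cases hl : lg x
  · exact Or.inl (F.c4 x hx hl)
  · exact Or.inr (F.c2 x hx hl)

/-- the commutator of two root groups -/
theorem comm_in_X [Finite W] (R : RGD cs h 2 T n X) {x y w : Fin 3 → ℤ} (hx : x ∈ AL) (hy : y ∈ AL) (hne : x ≠ y)
    (hne' : x ≠ -y) (hb : ∀ z ∈ AL, bt x y z = true → z = w) :
    ∀ u ∈ X x, ∀ v ∈ X y, u * v * u⁻¹ * v⁻¹ ∈ X w := by
  intro u hu v hv
  have h1 := R.comm x y (isRoot_iff.2 hx) (isRoot_iff.2 hy) hne hne' u hu v hv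
  refine btw_le_of (fun z hz => ?_) h1
  obtain ⟨h2, h3⟩ := bt_of_btwn hz
  exact hb z h2 h3

theorem comm_X [Finite W] (R : RGD cs h 2 T n X) {x y : Fin 3 → ℤ} (hx : x ∈ AL) (hy : y ∈ AL) (hne : x ≠ y)
    (hne' : x ≠ -y) (hb : ∀ z ∈ AL, bt x y z = false) : ∀ u ∈ X x, ∀ v ∈ X y, u * v = v * u := by
  intro u hu v hv
  refine comm_of_not_btwn R (isRoot_iff.2 hx) (isRoot_iff.2 hy) hne hne' (fun z hz => ?_) hu hv
  obtain ⟨h2, h3⟩ := bt_of_btwn hz
  rw [hb z h2] at h3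
  exact Bool.false_ne_true h3

/-! ### Heisenberg groups -/

/-- `a`, `b` short, orthogonal, `z = a + b` long -/
def Hk (a b z : Fin 3 → ℤ) : Prop :=
  (a ∈ AL ∧ b ∈ AL ∧ z ∈ AL) ∧ (a ≠ b ∧ a ≠ -b ∧ z ≠ a ∧ z ≠ -a ∧ z ≠ b ∧ z ≠ -b) ∧
    (∀ w ∈ AL, bt z a w = false) ∧ (∀ w ∈ AL, bt z b w = false) ∧ (∀ w ∈ AL, bt a b w = true → w = z) ∧
    ((b - a) ∈ AL ∧ cc (b - a) a = -2 ∧ cc a (b - a) = -1) ∧ ((a - b) ∈ AL ∧ cc (a - b) b = -2 ∧ cc b (a - b) = -1)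

instance (a b z : Fin 3 → ℤ) : Decidable (Hk a b z) := by unfold Hk; infer_instance

section

variable [Finite W] (R : RGD cs h 2 T n X) (F : Fac T X)

include R

theorem Hk.ca {a b z : Fin 3 → ℤ} (H : Hk a b z) : ∀ u ∈ X z, ∀ v ∈ X a, u * v = v * u :=
  comm_X R H.1.2.2 H.1.1 H.2.1.2.2.1 H.2.1.2.2.2.1 H.2.2.1

theorem Hk.cb {a b z : Fin 3 → ℤ} (H : Hk a b z) : ∀ u ∈ X z, ∀ v ∈ X b, u * v = v * u :=
  comm_X R H.1.2.2 H.1.2.1 H.2.1.2.2.2.2.1 H.2.1.2.2.2.2.2 H.2.2.2.1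

theorem Hk.cab {a b z : Fin 3 → ℤ} (H : Hk a b z) : ∀ u ∈ X a, ∀ v ∈ X b, u * v * u⁻¹ * v⁻¹ ∈ X z :=
  comm_in_X R H.1.1 H.1.2.1 H.2.1.1 H.2.1.2.1 H.2.2.2.2.1

include F

theorem Hk.centre {a b z : Fin 3 → ℤ} (H : Hk a b z) {p : Y} (hp : p ∈ X a ⊔ (X b ⊔ X z))
    (h1 : ∀ g ∈ X a, p * g = g * p) (h2 : ∀ g ∈ X b, p * g = g * p) : p ∈ X z := by
  refine heis (H.ca R) (H.cb R) (F.ab H.1.2.1) (H.cab R) ?_ ?_ hp h1 h2
  · intro u hu hu1
    have := F.or4 _ H.2.2.2.2.2.1.1 a H.1.1 H.2.2.2.2.2.1.2.1 H.2.2.2.2.2.1.2.2 u hu hu1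
    rwa [sub_add_cancel] at this
  · intro u hu hu1
    have := F.or4 _ H.2.2.2.2.2.2.1 b H.1.2.1 H.2.2.2.2.2.2.2.1 H.2.2.2.2.2.2.2.2 u hu hu1
    rwa [sub_add_cancel] at this

end

/-! ### The subgroups -/

def LN : List (Fin 3 → ℤ) := [![2, 2, 1], ![1, 2, 1], ![1, 0, 0], ![1, 1, 1], ![1, 1, 0]]

def LF : List (Fin 3 → ℤ) := [![0, 2, 1], ![0, 1, 1], ![0, 1, 0]]

theorem mem_NotJ {z : Fin 3 → ℤ} : z ∈ NotJ cs h {1, 2} ↔ z ∈ LN := by
  have key : ∀ z ∈ LC3, 0 < z 0 ↔ z ∈ LN := by decide +kernel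
  have key2 : ∀ z ∈ LN, z ∈ LC3 := by decide +kernel
  constructor
  · rintro ⟨h1, h2, k, hk, h3⟩
    have hk0 : k = 0 := by
      fin_cases k
      · rfl
      · exact absurd (Or.inl rfl) hk
      · exact absurd (Or.inr rfl) hk
    subst hk0
    exact (key z (mem_Pos_iff.1 (⟨h1, h2⟩ : z ∈ RGD.Pos cs h))).1 h3
  · intro hz
    have h1 := (mem_Pos_iff (cs := cs) (h := h)).2 (key2 z hz)
    refine ⟨h1.1, h1.2, 0, ?_, (key z (key2 z hz)).2 hz⟩
    rintro (h2 | h2)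
    · exact absurd h2 (by decide)
    · exact absurd h2 (by decide)

theorem mem_PosJ {z : Fin 3 → ℤ} : z ∈ PosJ cs h {1, 2} ↔ z ∈ LF ∨ z = ![0, 0, 1] := by
  have key : ∀ z ∈ LC3, z 0 = 0 → z ∈ LF ∨ z = ![0, 0, 1] := by decide +kernel
  have key2 : ∀ z ∈ (![0, 0, 1] :: LF), z ∈ LC3 ∧ z 0 = 0 := by decide +kernel
  constructor
  · rintro ⟨h1, h2, h3⟩
    refine key z (mem_Pos_iff.1 (⟨h1, h2⟩ : z ∈ RGD.Pos cs h)) (h3 0 ?_)
    rintro (h4 | h4)
    · exact absurd h4 (by decide)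
    · exact absurd h4 (by decide)
  · intro hz
    obtain ⟨h1, h2⟩ := key2 z (by rw [List.mem_cons]; exact hz.symm)
    have h3 := (mem_Pos_iff (cs := cs) (h := h)).2 h1
    refine ⟨h3.1, h3.2, fun k hk => ?_⟩
    fin_cases k
    · exact h2
    · exact absurd (Or.inl rfl) hk
    · exact absurd (Or.inr rfl) hk

end Cfsg.Agent.Omega.EH3Close.CThree

end

-- merged: Cfsg.Agent.Mrg.Omega.EH3Close.CThree.Main
section

/-!
# The row `C₃(4,4,2)`: the bound (helper635)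
-/

set_option autoImplicit false
set_option linter.unusedSectionVars false
set_option Elab.async false

namespace Cfsg.Agent.Omega.EH3Close.CThree

open CoxeterSystem Cfsg.Agent.ChevalleyStructure.CoxeterGeom Cfsg.Agent.Tits.Roots Cfsg.Agent.Tits.Core
  Cfsg.Agent.Tits.Exchange Cfsg.Agent.Nodes.Reps Cfsg.Agent.Nodes.BNOf Cfsg.Agent.Nodes.StabComb
  Cfsg.Agent.Nodes.Bruhat Cfsg.Agent.Nodes.OppDec Cfsg.Agent.Nodes.PosPair Cfsg.Agent.Nodes.Coroot
  Cfsg.Agent.Nodes.LeviDec Cfsg.Agent.KFacts.RgdSL Cfsg.Agent.Omega.EH3Close.LeadU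
  Cfsg.Agent.Omega.EH3Close.RgdLead Cfsg.Agent.Omega.EH3Close.Roots

section

variable {Y : Type*} [Group Y]

theorem card_five [Finite Y] {A B A' B' Z E : Subgroup Y}
    (h : ∀ e ∈ E, ∃ a ∈ A, ∃ b ∈ B, ∃ a' ∈ A', ∃ b' ∈ B', ∃ z ∈ Z, e = a * b * (a' * b') * z) :
    Nat.card E ≤ Nat.card A * (Nat.card B * (Nat.card A' * (Nat.card B' * Nat.card Z))) := by
  have h' : ∀ e : E, ∃ q : A × (B × (A' × (B' × Z))), (e : Y) = q.1 * q.2.1 * (q.2.2.1 * q.2.2.2.1) * q.2.2.2.2 := by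
    intro e
    obtain ⟨a, ha, b, hb, a', ha', b', hb', z, hz, he⟩ := h e e.2
    exact ⟨⟨⟨a, ha⟩, ⟨b, hb⟩, ⟨a', ha'⟩, ⟨b', hb'⟩, ⟨z, hz⟩⟩, he⟩
  choose f hf using h'
  have hinj : Function.Injective f := by
    intro e e' he
    apply Subtype.ext
    rw [hf e, hf e', he]
  have := Nat.card_le_card_of_injective f hinj
  rwa [Nat.card_prod, Nat.card_prod, Nat.card_prod, Nat.card_prod] at this

theorem le_cent {H K : Subgroup Y} (h : ∀ x ∈ H, ∀ y ∈ K, x * y = y * x) : H ≤ Subgroup.centralizer (K : Set Y) :=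
  fun x hx => Subgroup.mem_centralizer_iff.2 fun y hy => (h x hx y hy).symm

theorem comm3 {A B C K : Subgroup Y} (hA : ∀ x ∈ A, ∀ y ∈ K, x * y = y * x) (hB : ∀ x ∈ B, ∀ y ∈ K, x * y = y * x)
    (hC : ∀ x ∈ C, ∀ y ∈ K, x * y = y * x) : ∀ x ∈ A ⊔ (B ⊔ C), ∀ y ∈ K, x * y = y * x := by
  intro x hx y hy
  have : A ⊔ (B ⊔ C) ≤ Subgroup.centralizer (K : Set Y) := sup_le (le_cent hA) (sup_le (le_cent hB) (le_cent hC))
  exact (Subgroup.mem_centralizer_iff.1 (this hx) y hy).symm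

end

variable {W Y : Type*} [Group W] [Finite W] [Group Y] {cs : CoxeterSystem (CoxeterMatrix.B 3) W}
  {h : IsCartan (CoxeterMatrix.B 3) AC3} {T : Subgroup Y} {n : Fin 3 → Y} {X : (Fin 3 → ℤ) → Subgroup Y}

/-- `X r`, `X s` commute -/
def Cp (r s : Fin 3 → ℤ) : Prop := r ∈ AL ∧ s ∈ AL ∧ (r = s ∨ (r ≠ s ∧ r ≠ -s ∧ ∀ w ∈ AL, bt r s w = false))

instance (r s : Fin 3 → ℤ) : Decidable (Cp r s) := by unfold Cp; infer_instance

/-- `[X r, X s] ≤ X z` -/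
def Cq (z r s : Fin 3 → ℤ) : Prop :=
  r ∈ AL ∧ s ∈ AL ∧ (r = s ∨ (r ≠ s ∧ r ≠ -s ∧ ∀ w ∈ AL, bt r s w = true → w = z))

instance (z r s : Fin 3 → ℤ) : Decidable (Cq z r s) := by unfold Cq; infer_instance

section

variable (R : RGD cs h 2 T n X) (F : Fac T X)

include R F

theorem Cp.comm {r s : Fin 3 → ℤ} (H : Cp r s) : ∀ u ∈ X r, ∀ v ∈ X s, u * v = v * u := by
  obtain ⟨h1, h2, h3⟩ := H
  rcases h3 with rfl | ⟨h3, h4, h5⟩
  · exact F.ab h1
  · exact comm_X R h1 h2 h3 h4 h5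

theorem Cq.comm {z r s : Fin 3 → ℤ} (H : Cq z r s) : ∀ u ∈ X r, ∀ v ∈ X s, u * v * u⁻¹ * v⁻¹ ∈ X z := by
  obtain ⟨h1, h2, h3⟩ := H
  rcases h3 with rfl | ⟨h3, h4, h5⟩
  · intro u hu v hv
    rw [F.ab h1 u hu v hv, mul_inv_cancel_right, mul_inv_cancel]
    exact one_mem _
  · exact comm_in_X R h1 h2 h3 h4 h5

theorem comm_list {L : List (Fin 3 → ℤ)} {z : Fin 3 → ℤ} (h1 : ∀ r ∈ L, Cp z r) (h2 : ∀ r ∈ L, ∀ s ∈ L, Cq z r s) :
    ∀ x ∈ RGD.Sup X {r | r ∈ L}, ∀ y ∈ RGD.Sup X {r | r ∈ L}, x * y * x⁻¹ * y⁻¹ ∈ X z :=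
  comm_Sup (fun z hz r hr x hx => (h1 r hr).comm R F z hz x hx) fun r hr s hs => (h2 r hr s hs).comm R F

omit R F in
theorem VJ_eq' : VJ cs h X {1, 2} = RGD.Sup X {z | z ∈ LN} := by
  unfold VJ
  congr 1
  ext z
  exact mem_NotJ

omit R F in
theorem UJ_eq' : UJ cs h X {1, 2} = RGD.Sup X {z | z ∈ LF ∨ z = ![0, 0, 1]} := by
  unfold UJ
  congr 1
  ext z
  exact mem_PosJ

theorem comm_E : ∀ x ∈ VJ cs h X {1, 2}, ∀ y ∈ VJ cs h X {1, 2}, x * y * x⁻¹ * y⁻¹ ∈ X ![2, 2, 1] := by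
  rw [VJ_eq']
  exact comm_list R F (by decide +kernel) (by decide +kernel)

theorem comm_F : ∀ x ∈ RGD.Sup X {z | z ∈ LF}, ∀ y ∈ RGD.Sup X {z | z ∈ LF}, x * y * x⁻¹ * y⁻¹ ∈ X ![0, 2, 1] :=
  comm_list R F (by decide +kernel) (by decide +kernel)

omit R F in
theorem E_le : VJ cs h X {1, 2} ≤ (X ![1, 2, 1] ⊔ (X ![1, 0, 0] ⊔ X ![2, 2, 1])) ⊔
    (X ![1, 1, 1] ⊔ (X ![1, 1, 0] ⊔ X ![2, 2, 1])) := by
  rw [VJ_eq']
  refine RGD.Sup_le fun z hz => ?_
  simp only [LN, List.mem_cons, List.not_mem_nil, or_false, Set.mem_setOf_eq] at hz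
  rcases hz with rfl | rfl | rfl | rfl | rfl
  · exact le_sup_right.trans (le_sup_right.trans le_sup_left)
  · exact le_sup_left.trans le_sup_left
  · exact le_sup_left.trans (le_sup_right.trans le_sup_left)
  · exact le_sup_left.trans le_sup_right
  · exact le_sup_left.trans (le_sup_right.trans le_sup_right)

omit R F in
theorem X_le_E {z : Fin 3 → ℤ} (hz : z ∈ LN) : X z ≤ VJ cs h X {1, 2} := by
  rw [VJ_eq']
  exact RGD.le_Sup (S := {z | z ∈ LN}) hz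

omit R F in
theorem le_E : (X ![1, 2, 1] ⊔ (X ![1, 0, 0] ⊔ X ![2, 2, 1])) ⊔
    (X ![1, 1, 1] ⊔ (X ![1, 1, 0] ⊔ X ![2, 2, 1])) ≤ VJ cs h X {1, 2} :=
  sup_le (sup_le (X_le_E (by decide +kernel)) (sup_le (X_le_E (by decide +kernel)) (X_le_E (by decide +kernel))))
    (sup_le (X_le_E (by decide +kernel)) (sup_le (X_le_E (by decide +kernel)) (X_le_E (by decide +kernel))))

theorem comm_PP : ∀ x ∈ X ![1, 2, 1] ⊔ (X ![1, 0, 0] ⊔ X ![2, 2, 1]),
    ∀ y ∈ X ![1, 1, 1] ⊔ (X ![1, 1, 0] ⊔ X ![2, 2, 1]), x * y = y * x := by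
  have key : ∀ r ∈ [![1, 2, 1], ![1, 0, 0], ![2, 2, 1]], ∀ s ∈ [![1, 1, 1], ![1, 1, 0], ![2, 2, 1]],
      Cp s r := by decide +kernel
  have h1 : ∀ r ∈ ([![1, 2, 1], ![1, 0, 0], ![2, 2, 1]] : List (Fin 3 → ℤ)), ∀ x ∈ X r,
      ∀ y ∈ X ![1, 1, 1] ⊔ (X ![1, 1, 0] ⊔ X ![2, 2, 1]), x * y = y * x := by
    intro r hr x hx y hy
    exact (comm3 ((key r hr _ (by simp)).comm R F) ((key r hr _ (by simp)).comm R F)
      ((key r hr _ (by simp)).comm R F) y hy x hx).symm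
  exact comm3 (h1 _ (by simp)) (h1 _ (by simp)) (h1 _ (by simp))

omit R F in
theorem hk1 : Hk ![1, 2, 1] ![1, 0, 0] ![2, 2, 1] := by decide +kernel

omit R F in
theorem hk2 : Hk ![1, 1, 1] ![1, 1, 0] ![2, 2, 1] := by decide +kernel

omit R F in
theorem hk3 : Hk ![0, 1, 1] ![0, 1, 0] ![0, 2, 1] := by decide +kernel

theorem centre_E {e : Y} (he : e ∈ VJ cs h X {1, 2}) (hc : ∀ e' ∈ VJ cs h X {1, 2}, e * e' = e' * e) :
    e ∈ X ![2, 2, 1] := by
  refine heis_mul (comm_PP R F) (fun p hp hc => ?_) (fun p hp hc => ?_) (E_le he)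
    (fun e' he' => hc e' (le_E he'))
  · exact hk1.centre R F hp (fun g hg => hc g (Subgroup.mem_sup_left hg))
      (fun g hg => hc g (Subgroup.mem_sup_right (Subgroup.mem_sup_left hg)))
  · exact hk2.centre R F hp (fun g hg => hc g (Subgroup.mem_sup_left hg))
      (fun g hg => hc g (Subgroup.mem_sup_right (Subgroup.mem_sup_left hg)))

omit R F in
theorem F_le : RGD.Sup X {z | z ∈ LF} ≤ X ![0, 1, 1] ⊔ (X ![0, 1, 0] ⊔ X ![0, 2, 1]) := by
  refine RGD.Sup_le fun z hz => ?_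
  have hz' : z ∈ LF := hz
  simp only [LF, List.mem_cons, List.not_mem_nil, or_false] at hz'
  rcases hz' with rfl | rfl | rfl
  · exact le_sup_right.trans le_sup_right
  · exact le_sup_left
  · exact le_sup_left.trans le_sup_right

omit R F in
theorem X_le_F {z : Fin 3 → ℤ} (hz : z ∈ LF) : X z ≤ RGD.Sup X {z | z ∈ LF} := RGD.le_Sup (S := {z | z ∈ LF}) hz

theorem centre_F {f : Y} (hf : f ∈ RGD.Sup X {z | z ∈ LF}) (hc : ∀ f' ∈ RGD.Sup X {z | z ∈ LF}, f * f' = f' * f) :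
    f ∈ X ![0, 2, 1] :=
  hk3.centre R F (F_le hf) (fun g hg => hc g (X_le_F (by decide +kernel) hg))
    (fun g hg => hc g (X_le_F (by decide +kernel) hg))

omit F in
theorem F_norm : ∀ u ∈ UJ cs h X {1, 2}, ∀ f ∈ RGD.Sup X {z | z ∈ LF}, u * f * u⁻¹ ∈ RGD.Sup X {z | z ∈ LF} := by
  have key : ∀ r ∈ (![0, 0, 1] :: LF), r ∈ AL ∧ ∀ s ∈ LF, s ∈ AL ∧ (r = s ∨ (r ≠ -s ∧
      ∀ w ∈ AL, bt r s w = true → w ∈ LF)) := by decide +kernel
  have h1 : UJ cs h X {1, 2} ≤ Subgroup.normalizer (RGD.Sup X {z | z ∈ LF} : Set Y) := by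
    rw [UJ_eq']
    refine RGD.Sup_le fun r hr => ?_
    have hr' : r ∈ (![0, 0, 1] :: LF) := by rw [List.mem_cons]; exact Or.symm hr
    obtain ⟨k1, k2⟩ := key r hr'
    refine R.le_normalizer (isRoot_iff.2 k1) fun s hs => ?_
    obtain ⟨k3, k4⟩ := k2 s hs
    refine ⟨isRoot_iff.2 k3, k4.imp id fun k5 => ⟨k5.1, fun z hz => ?_⟩⟩
    obtain ⟨h2, h3⟩ := bt_of_btwn hz
    exact k5.2 z h2 h3
  intro u hu f hf
  exact (Subgroup.mem_normalizer_iff.1 (h1 hu) f).1 hf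

omit F in
theorem UJ_dec : ∀ u ∈ UJ cs h X {1, 2}, ∃ v ∈ X ![0, 0, 1], ∃ f ∈ RGD.Sup X {z | z ∈ LF}, u = v * f := by
  intro u hu
  refine mem_sup_of (fun a ha b hb => F_norm (cs := cs) (h := h) R a ?_ b hb) ?_
  · rw [UJ_eq']
    exact RGD.le_Sup (S := {z | z ∈ LF ∨ z = ![0, 0, 1]}) (Or.inr rfl) ha
  · rw [UJ_eq'] at hu
    have h1 : RGD.Sup X {z | z ∈ LF ∨ z = ![0, 0, 1]} ≤ X ![0, 0, 1] ⊔ RGD.Sup X {z | z ∈ LF} := by
      refine RGD.Sup_le fun z hz => ?_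
      rcases hz with hz | rfl
      · exact (X_le_F hz).trans le_sup_right
      · exact le_sup_left
    exact h1 hu

/-- the commutator of a long root group -/
theorem exists_lo {m x z : Fin 3 → ℤ} (hm : m ∈ AL) (hx : x ∈ AL) (e1 : cc m x = -2) (e2 : cc x m = -1)
    (e3 : m + (2 : ℤ) • x = z) {K : Subgroup Y} (hK : X x ≤ K) :
    ∀ v ∈ X m, v ≠ 1 → ∃ u ∈ K, v * u * v⁻¹ * u⁻¹ ∉ X z := by
  intro v hv hv1
  obtain ⟨u, hu, hu1⟩ := exists_ne_one' R (isRoot_iff.2 hx)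
  exact ⟨u, hK hu, by rw [← e3]; exact F.lo m hm x hx e1 e2 v hv hv1 u hu hu1⟩

theorem card_E [Finite Y] : Nat.card (VJ cs h X {1, 2}) ≤ 512 := by
  have h1 := card_five (A := X ![1, 2, 1]) (B := X ![1, 0, 0]) (A' := X ![1, 1, 1]) (B' := X ![1, 1, 0])
    (Z := X ![2, 2, 1]) (E := VJ cs h X {1, 2}) (by
      intro e he
      obtain ⟨p, hp, p', hp', rfl⟩ := mem_sup_of (fun a ha b hb => by
        rw [comm_PP R F a ha b hb, mul_inv_cancel_right]; exact hb) (E_le he)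
      obtain ⟨a, ha, b, hb, z, hz, rfl⟩ := exists_abz (hk1.ca R) (hk1.cb R) (hk1.cab R) hp
      obtain ⟨a', ha', b', hb', z', hz', rfl⟩ := exists_abz (hk2.ca R) (hk2.cb R) (hk2.cab R) hp'
      refine ⟨a, ha, b, hb, a', ha', b', hb', z * z', mul_mem hz hz', ?_⟩
      have h3 : z * (a' * b') = a' * b' * z := by
        rw [← mul_assoc, hk2.ca R z hz a' ha', mul_assoc, hk2.cb R z hz b' hb', ← mul_assoc]
      calc a * b * z * (a' * b' * z') = a * b * (z * (a' * b')) * z' := by group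
        _ = _ := by rw [h3]; group)
  rw [F.c4 ![1, 2, 1] (by decide +kernel) (by decide +kernel), F.c4 ![1, 0, 0] (by decide +kernel) (by decide +kernel),
    F.c4 ![1, 1, 1] (by decide +kernel) (by decide +kernel), F.c4 ![1, 1, 0] (by decide +kernel) (by decide +kernel),
    F.c2 ![2, 2, 1] (by decide +kernel) (by decide +kernel)] at h1
  omega

end

/-! ### The bound -/

theorem card_core {V : Type*} [Finite Y] [AddCommGroup V] [Module (ZMod 2) V] {ρ : Y →* (V ≃ₗ[ZMod 2] V)} {a : V}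
    (D : Star.Mod cs h T n X ρ a 2) (hq : ∀ j, Nat.card (X (sr j)) = (![4, 4, 2] : Fin 3 → ℕ) j) {Ab : Subgroup Y}
    (hA : Ab ≤ RGD.Sup X (RGD.Pos cs h)) (hc : ∀ x ∈ Ab, ∀ y ∈ Ab, x * y = y * x)
    (hn : ∀ g ∈ RGD.Sup X (RGD.Pos cs h), ∀ x ∈ Ab, g * x * g⁻¹ ∈ Ab)
    (hqd : ∀ x ∈ Ab, ∀ y ∈ Ab, ∀ v, ρ x (ρ y v + v) = ρ y v + v) : Nat.card Ab ≤ 2 ^ 5 := by
  have R := D.rgd
  have F := fac R hq
  -- `Ab ≤ E`
  have hle : Ab ≤ VJ cs h X {1, 2} := by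
    by_contra hne
    obtain ⟨x, hx, hx1, y, hy, hxy, z, hz, hz1, hzN⟩ := main_abs (U := RGD.Sup X (RGD.Pos cs h))
      (E := VJ cs h X {1, 2}) (F := RGD.Sup X {z | z ∈ LF}) (UJ := UJ cs h X {1, 2}) (Γ := X ![0, 0, 1])
      (β := X ![0, 2, 1]) (θ := X ![2, 2, 1]) (N := Ab) R.isPGroup_Upos (VJ_le_U _) (UJ_le_U _)
      (by rw [UJ_eq']; exact RGD.Sup_mono fun z hz => Or.inl hz)
      (fun u hu e he => (Subgroup.mem_normalizer_iff.1
        (PJ_le_normalizer_VJ R {1, 2} (B_le_PJ (RGD.U_le_B hu))) e).1 he)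
      (fun g hg => (mem_U_iff R).1 hg) (F_norm R) (UJ_dec R) (fun e he hc => centre_E R F he hc)
      (fun f hf hc => centre_F R F hf hc) (comm_E R F) (comm_F R F)
      (exists_lo R F (x := ![0, 1, 0]) (by decide +kernel) (by decide +kernel) (by decide +kernel)
        (by decide +kernel) (by decide +kernel) (X_le_F (by decide +kernel)))
      (exists_lo R F (x := ![1, 0, 0]) (by decide +kernel) (by decide +kernel) (by decide +kernel)
        (by decide +kernel) (by decide +kernel) (X_le_E (by decide +kernel)))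
      hA hn hne
    have e1 : rep cs h (cs.simple 1) (sr 2) = ![0, 2, 1] := by
      rw [rep_simple]; decide +kernel
    have e2 : rep cs h (cs.simple 0 * cs.simple 1) (sr 2) = ![2, 2, 1] := by
      rw [rep_mul_apply, e1, rep_simple]; decide +kernel
    have e3 : rep cs h (cs.simple 1 * cs.simple 2 * (cs.simple 1)⁻¹) ![2, 2, 1] = ![2, 2, 1] := by
      rw [cs.inv_simple, rep_mul_apply, rep_mul_apply, rep_simple, rep_simple]; decide +kernel
    obtain ⟨v, hv⟩ := D.kill (J := {1, 2}) (Or.inr rfl) (u := cs.simple 1) (u' := cs.simple 0 * cs.simple 1)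
      (Cfsg.Agent.Tits.Exchange.simple_mem_WJ cs ⟨Or.inl rfl, by
        intro h1; exact absurd h1 (by decide)⟩)
      (mul_mem (Cfsg.Agent.Tits.Exchange.simple_mem_WJ cs (by
        intro h1; exact absurd h1 (by decide)))
        (Cfsg.Agent.Tits.Exchange.simple_mem_WJ cs (by
        intro h1; exact absurd h1 (by decide))))
      (by rw [e2]; exact e3) (z := z) (x := x) (y := y) (by rw [e2]; exact hz) hz1 (by rw [e1]; exact hx) hx1 hy
    exact hv (hqd _ hxy _ hzN v)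
  -- the count
  obtain ⟨z, hz, hz1⟩ := exists_ne_one' R (isRoot_iff.2 (show ![2, 2, 1] ∈ AL by decide +kernel))
  have c2 := F.c2 ![2, 2, 1] (by decide +kernel) (by decide +kernel)
  have hall : ∀ g ∈ X ![2, 2, 1], g = 1 ∨ g = z := by
    intro g hg
    by_cases hg1 : g = 1
    · exact Or.inl hg1
    · exact Or.inr (eq_of_card_two c2 hg hz hg1 hz1)
  have hzz : z * z = 1 := by
    rcases hall _ (mul_mem hz hz) with h1 | h1
    · exact h1
    · exact absurd (mul_eq_left.1 h1) hz1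
  have hzE : ∀ e ∈ VJ cs h X {1, 2}, z * e = e * z := by
    have h1 : VJ cs h X {1, 2} ≤ Subgroup.centralizer {z} := by
      rw [VJ_eq']
      refine RGD.Sup_le fun r hr g hg => ?_
      have key : ∀ r ∈ LN, Cp ![2, 2, 1] r := by decide +kernel
      exact Subgroup.mem_centralizer_singleton_iff.2 ((key r hr).comm R F z hz g hg).symm
    intro e he
    exact (Subgroup.mem_centralizer_singleton_iff.1 (h1 he)).symm
  have h1 := card_sq_le (E := VJ cs h X {1, 2}) (A := Ab) hz1 hzz hzE (by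
      intro e he e' he'
      have h2 : e * e' = (e * e' * e⁻¹ * e'⁻¹) * (e' * e) := by group
      rcases hall _ (comm_E R F e he e' he') with h3 | h3
      · left; rw [h2, h3, one_mul]
      · right; rw [h2, h3]; exact hzE _ (mul_mem he' he)) hle hc
    (fun e he hc => hall e (centre_E R F he hc))
  have h2 := card_E (cs := cs) (h := h) R F
  by_contra hcon
  push Not at hcon
  have h3 : 33 ≤ Nat.card Ab := by
    have : (2 : ℕ) ^ 5 = 32 := by norm_num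
    omega
  have h4 : 33 * 33 ≤ Nat.card Ab * Nat.card Ab := Nat.mul_le_mul h3 h3
  omega

/-- **The row `C₃(4,4,2)`.** -/
theorem card_le {W Y V : Type*} [Group W] [Finite W] [Group Y] [Finite Y] [AddCommGroup V] [Module (ZMod 2) V]
    {cs : CoxeterSystem (CoxeterMatrix.B 3) W} {A : Fin 3 → Fin 3 → ℤ} {h : IsCartan (CoxeterMatrix.B 3) A}
    {T : Subgroup Y} {n : Fin 3 → Y} {X : (Fin 3 → ℤ) → Subgroup Y} {ρ : Y →* (V ≃ₗ[ZMod 2] V)} {a : V}
    (D : Star.Mod cs h T n X ρ a 2) (hq : ∀ j, Nat.card (X (sr j)) = (![4, 4, 2] : Fin 3 → ℕ) j) {Ab : Subgroup Y}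
    (hA : Ab ≤ RGD.Sup X (RGD.Pos cs h)) (hc : ∀ x ∈ Ab, ∀ y ∈ Ab, x * y = y * x)
    (hn : ∀ g ∈ RGD.Sup X (RGD.Pos cs h), ∀ x ∈ Ab, g * x * g⁻¹ ∈ Ab)
    (hqd : ∀ x ∈ Ab, ∀ y ∈ Ab, ∀ v, ρ x (ρ y v + v) = ρ y v + v) : Nat.card Ab ≤ 2 ^ 5 := by
  obtain ⟨h', X', D', e1, e2, -, -⟩ := DualRgd.to_C3 D
  exact card_core D' (fun j => by rw [e1]; exact hq j) (by rw [e2]; exact hA) hc (by rw [e2]; exact hn) hqd

end Cfsg.Agent.Omega.EH3Close.CThree

end

-- merged: Cfsg.Agent.Omega.EH3Close.NoFourCfg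
section

/-!
# EH3 END: an involution `c` with `|[V, c]| = 4`, part 1 (the configuration) (helper227)

`c² = 1`, `c` fixes `a`, `|[V, c]| = 4`:

* `exists_e` : `|[D, c]| ≤ 2`;
* `comm_eq` : the commutators `⁅c, x⁆ ≠ 1`, `x ∈ X`, are equal;
* `not_mem_X` : `c ∉ X` unless `c = 1`.
-/

set_option autoImplicit false

namespace Cfsg.Agent.Omega.EH3Close.NoFourCfg

open Cfsg.Agent.Omega.EH3
open scoped commutatorElement

variable {H V : Type*} [Group H] [AddCommGroup V] [Module (ZMod 2) V]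
  {ρ : H →* (V ≃ₗ[ZMod 2] V)} {b : LinearMap.BilinForm (ZMod 2) V} {q : V → ZMod 2}
  {a : V} {D : Submodule (ZMod 2) V} {X : Subgroup H} {w : ℕ}

theorem mem_four {W : Submodule (ZMod 2) V} [Finite V] (hW : Nat.card W = 4) (hs : ∀ v : V, v + v = 0) {e f : V}
    (he : e ∈ W) (hf : f ∈ W) (he0 : e ≠ 0) (hf0 : f ≠ 0) (hef : e ≠ f) {x : V} (hx : x ∈ W) :
    x = 0 ∨ x = e ∨ x = f ∨ x = e + f := by
  classical
  by_contra hcon
  push Not at hcon
  obtain ⟨h0, h1, h2, h3⟩ := hcon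
  have hef0 : e + f ≠ 0 := by
    intro h
    apply hef
    have : e + f + f = f := by rw [h, zero_add]
    rwa [add_assoc, hs, add_zero] at this
  have hee : e + f ≠ e := fun h => hf0 (add_eq_left.1 h)
  have hff : e + f ≠ f := fun h => he0 (add_eq_right.1 h)
  let S : Finset V := {0, e, f, e + f, x}
  have hS : S.card = 5 := by
    rw [Finset.card_insert_of_notMem, Finset.card_insert_of_notMem, Finset.card_insert_of_notMem,
      Finset.card_insert_of_notMem, Finset.card_singleton]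
    · rw [Finset.mem_singleton]; exact fun h => h3 h.symm
    · simp only [Finset.mem_insert, Finset.mem_singleton, not_or]
      exact ⟨fun h => hff h.symm, fun h => h2 h.symm⟩
    · simp only [Finset.mem_insert, Finset.mem_singleton, not_or]
      exact ⟨hef, fun h => hee h.symm, fun h => h1 h.symm⟩
    · simp only [Finset.mem_insert, Finset.mem_singleton, not_or]
      exact ⟨fun h => he0 h.symm, fun h => hf0 h.symm, fun h => hef0 h.symm, fun h => h0 h.symm⟩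
  have h4 : (S : Set V) ⊆ (W : Set V) := by
    intro y hy
    simp only [S, Finset.coe_insert, Finset.coe_singleton, Set.mem_insert_iff, Set.mem_singleton_iff] at hy
    rcases hy with rfl | rfl | rfl | rfl | rfl
    · exact W.zero_mem
    · exact he
    · exact hf
    · exact W.add_mem he hf
    · exact hx
  have h5 := Set.ncard_le_ncard h4 (Set.toFinite _)
  rw [Set.ncard_coe_finset, hS] at h5
  have h6 : (W : Set V).ncard = 4 := by
    rw [← hW]; rfl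
  omega

variable (C : Cfg ρ b q a D X w) {c : H} (hc : c * c = 1) {W : Submodule (ZMod 2) V}
  (hW : ∀ x, x ∈ W ↔ ∃ u, ρ c u + u = x) (h4 : Nat.card W = 4)

include C

theorem faithful {x : H} (hx : x ∈ X) (h : ∀ d ∈ D, ρ x d = d) : x = 1 := by
  obtain ⟨v, hv⟩ := C.exists_off
  refine C.X_semi x hx v hv (C.perp_D fun d hd => ?_)
  rw [C.b_comm, map_add, LinearMap.add_apply]
  have h1 : b (ρ x v) d = b v d := by
    nth_rewrite 1 [← h d hd]
    exact C.b_inv x v d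
  rw [h1]
  exact CharTwo.add_self_eq_zero _

include hc hW h4

theorem le_D {e f : V} (he : e ∈ W) (hf : f ∈ W) (heD : e ∈ D) (hfD : f ∈ D) (he0 : e ≠ 0) (hf0 : f ≠ 0)
    (hef : e ≠ f) : W ≤ D := by
  have := C.finite_V
  intro x hx
  rcases mem_four h4 C.add_self he hf he0 hf0 hef hx with rfl | rfl | rfl | rfl
  · exact D.zero_mem
  · exact heD
  · exact hfD
  · exact D.add_mem heD hfD

/-- `|[D, c]| ≤ 2` -/
theorem exists_e (hca : ρ c a = a) : ∃ e ∈ D, ∀ d ∈ D, ρ c d + d = 0 ∨ ρ c d + d = e := by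
  by_cases h : ∀ d ∈ D, ρ c d + d = 0
  · exact ⟨0, D.zero_mem, fun d hd => Or.inl (h d hd)⟩
  · push Not at h
    obtain ⟨d, hd, hd0⟩ := h
    refine ⟨ρ c d + d, D.add_mem (C.D_inv c hca d hd) hd, fun d' hd' => ?_⟩
    by_contra hcon
    push Not at hcon
    have hWD : W ≤ D := le_D C hc hW h4 ((hW _).2 ⟨d, rfl⟩) ((hW _).2 ⟨d', rfl⟩)
      (D.add_mem (C.D_inv c hca d hd) hd) (D.add_mem (C.D_inv c hca d' hd') hd') hd0 hcon.1 (fun h => hcon.2 h.symm)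
    apply hd0
    apply C.nondeg
    intro v
    have h1 : b (ρ c v + v) d = 0 := C.b_D (hWD ((hW _).2 ⟨v, rfl⟩)) hd
    have h2 : b (ρ c v) d = b v (ρ c d) := by
      have h3 := C.b_inv c v (ρ c d)
      rw [← C.ρ_mul, hc, C.ρ_one] at h3
      exact h3
    rw [C.b_comm, map_add, ← h2]
    rw [map_add, LinearMap.add_apply] at h1
    exact h1

/-- `c ∉ X` -/
theorem not_mem_X (hc1 : c ≠ 1) : c ∉ X := by
  intro hcX
  have h1 : ∃ d ∈ D, ρ c d ≠ d := by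
    by_contra hcon
    push Not at hcon
    exact hc1 (faithful C hcX hcon)
  obtain ⟨d, hd, hd1⟩ := h1
  have h2 : ρ c d + d = a := by
    rcases C.X_D c hcX d hd with h | h
    · exact absurd h hd1
    · rw [h, add_comm, ← add_assoc, C.add_self, zero_add]
  obtain ⟨v, hv, hv0, hva⟩ := C.X_T c hcX hc1
  have hWD := le_D C hc hW h4 ((hW a).2 ⟨d, h2⟩) ((hW _).2 ⟨v, rfl⟩) C.a_mem (C.X_perp c hcX v hv) C.a_ne hv0
    (fun h => hva h.symm)
  obtain ⟨u, hu⟩ := C.exists_off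
  exact hc1 (C.X_semi c hcX u hu (hWD ((hW _).2 ⟨u, rfl⟩)))

/-- the commutators with `X` -/
theorem comm_eq (hca : ρ c a = a) {x y : H} (hx : x ∈ X) (hy : y ∈ X) (hx1 : ⁅c, x⁆ ≠ 1) (hy1 : ⁅c, y⁆ ≠ 1) :
    ⁅c, x⁆ = ⁅c, y⁆ := by
  obtain ⟨e, heD, he⟩ := exists_e C hc hW h4 hca
  have hci : c⁻¹ = c := inv_eq_of_mul_eq_one_left hc
  -- elements fixing `e` commute with `c`
  have key : ∀ z ∈ X, ρ z e = e → ⁅c, z⁆ = 1 := by
    intro z hz hze
    have hm : c * z * c⁻¹ * z⁻¹ ∈ X := mul_mem (C.X_norm c hca z hz) (inv_mem hz)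
    rw [commutatorElement_def]
    refine faithful C hm fun d hd => ?_
    have h0 : ∀ d ∈ D, ρ (c * z * c⁻¹) d = ρ z d := by
      intro d hd
      rw [hci, C.ρ_mul, C.ρ_mul]
      have h1 : ρ c d = d + (ρ c d + d) := by rw [add_left_comm, C.add_self, add_zero]
      have h2 : ρ z (ρ c d + d) = ρ c d + d := by
        rcases he d hd with h | h
        · rw [h, map_zero]
        · rw [h, hze]
      have h3 : ρ z (ρ c d) = ρ z d + (ρ c d + d) := by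
        nth_rewrite 1 [h1]
        rw [map_add, h2]
      rw [h3]
      have h5 : ρ c (ρ c d) = d := by rw [← C.ρ_mul, hc, C.ρ_one]
      rcases C.X_D z hz d hd with h4 | h4
      · rw [h4, map_add, map_add, h5, add_comm (ρ c d) (d + ρ c d), add_assoc, C.add_self, add_zero]
      · rw [h4, map_add, map_add, map_add, h5, hca]
        have : ρ c d + a + (d + ρ c d) = (ρ c d + ρ c d) + (d + a) := by abel
        rw [this, C.add_self, zero_add]
    have hz' : z⁻¹ = z := C.X_inv hz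
    rw [C.ρ_mul, h0 _ (by rw [hz']; exact C.X_mem_D hz hd), ← C.ρ_mul, mul_inv_cancel, C.ρ_one]
  have hxe : ρ x e = e + a := (C.X_D x hx e heD).resolve_left fun h => hx1 (key x hx h)
  have hye : ρ y e = e + a := (C.X_D y hy e heD).resolve_left fun h => hy1 (key y hy h)
  have h1 : ⁅c, x * y⁆ = 1 := by
    refine key _ (mul_mem hx hy) ?_
    rw [C.ρ_mul, hye, map_add, hxe, C.X_a hx, add_assoc, C.add_self, add_zero]
  have hcx : ⁅c, x⁆ ∈ X := by
    rw [commutatorElement_def]; exact mul_mem (C.X_norm c hca x hx) (inv_mem hx)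
  have hcy : ⁅c, y⁆ ∈ X := by
    rw [commutatorElement_def]; exact mul_mem (C.X_norm c hca y hy) (inv_mem hy)
  have h2 : ⁅c, x * y⁆ = ⁅c, x⁆ * (x * ⁅c, y⁆ * x⁻¹) := by
    simp only [commutatorElement_def]; group
  have h3 : x * ⁅c, y⁆ * x⁻¹ = ⁅c, y⁆ := by
    rw [C.X_comm hx hcy, mul_inv_cancel_right]
  rw [h2, h3] at h1
  rw [← C.X_inv hcy]
  exact eq_inv_of_mul_eq_one_left h1

end Cfsg.Agent.Omega.EH3Close.NoFourCfg

end

-- merged: Cfsg.Agent.Mrg.Omega.EH3Close.NoFour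
section

/-!
# EH3 END: no involution `c` with `|[V, c]| = 4` in the rows `D₆`, `E₇` (helper227)

* `isRoot_of_mem` : the vectors of a `PosRoots` list are roots;
* `two_comm` : `c ∈ U` outside `V_J`, `J = {i}ᶜ`, has two different commutators `≠ 1` with elements of `V_J`;
* `eq_top` : `L = ⊤` if the only diagram symmetry fixing `i` is `1` and all orders are `2`;
* `no_four` : no involution `c` of `H` has `|[V, c]| = 4` (`w ≠ 10`).
-/

set_option autoImplicit false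
set_option linter.unusedSectionVars false

namespace Cfsg.Agent.Omega.EH3Close.NoFour

open CoxeterSystem Cfsg.Agent.ChevalleyStructure.CoxeterGeom Cfsg.Agent.Tits.Roots Cfsg.Agent.Tits.Core
  Cfsg.Agent.Tits.RootComb Cfsg.Agent.Nodes.Comb Cfsg.Agent.Nodes.Reps Cfsg.Agent.Nodes.BNOf
  Cfsg.Agent.Nodes.StabComb Cfsg.Agent.Nodes.Bruhat Cfsg.Agent.Nodes.LeviDec Cfsg.Agent.Nodes.Coroot
  Cfsg.Agent.ParSys.RootCount Cfsg.Agent.ParSys.RootExc Cfsg.Agent.KFacts.RgdDiag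
  Cfsg.Agent.KFacts.RgdSL Cfsg.Agent.Omega.EH3Close.LeadU Cfsg.Agent.Omega.EH3Close.RgdLead
  Cfsg.Agent.Omega.EH3Close.Roots Cfsg.Agent.Omega.EH3Close.LocSL Cfsg.Agent.Omega.EH3Close.Numb
  Cfsg.Agent.Omega.EH3.Kf.Odd Cfsg.Agent.Omega.EH3.Kf.Sym Cfsg.Agent.Omega.EH3.Kf.Goal
open Cfsg.Agent.LieRecognition.BNCox (cA)
open scoped commutatorElement

/-! ### the list consists of roots -/

section

variable {I W : Type*} [Fintype I] [DecidableEq I] [Group W] {M : CoxeterMatrix I}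
  {cs : CoxeterSystem M W} {A : I → I → ℤ} {h : IsCartan M A}

theorem isRoot_of_mem [Finite W] {Rt : Finset (I → ℤ)} (hR : PosRoots A Rt) {v : I → ℤ} (hv : v ∈ Rt) :
    IsRoot cs h v := by
  have := Fintype.ofFinite W
  have key : ∀ N : ℕ, ∀ v ∈ Rt, ∑ k, v k ≤ N → IsRoot cs h v := by
    intro N
    induction N with
    | zero =>
      intro v hv hN
      exfalso
      have h1 : ∀ k ∈ Finset.univ, (0 : ℤ) ≤ v k := fun k _ => hR.pos v hv k
      have h2 : ∑ k, v k = 0 := le_antisymm (by exact_mod_cast hN) (Finset.sum_nonneg h1)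
      have h3 := (Finset.sum_eq_zero_iff_of_nonneg h1).1 h2
      have h4 : v = 0 := funext fun k => h3 k (Finset.mem_univ k)
      exact hR.ne (h4 ▸ hv)
    | succ N ih =>
      intro v hv hN
      by_cases hs : ∃ i, v = Pi.single i 1
      · obtain ⟨i, rfl⟩ := hs
        exact isRoot_sr cs h i
      · push Not at hs
        have h1 : ∃ j, 0 < pairing A j v := by
          by_contra hcon
          push Not at hcon
          have h2 : 0 < form cs h v v := form_pos cs h fun h0 => hR.ne (h0 ▸ hv)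
          have h3 : 2 * form cs h v v ≤ 0 := by
            rw [form_eq_sum cs h v v, Finset.mul_sum]
            refine Finset.sum_nonpos fun k _ => ?_
            have h4 := two_form_cpr cs h v (isRoot_sr cs h k)
            rw [cpr_sr] at h4
            have h5 := form_pos cs h (sr_ne_zero k)
            have h6 : 2 * form cs h v (sr k) ≤ 0 := by
              rw [h4]
              exact mul_nonpos_of_nonpos_of_nonneg (hcon k) h5.le
            have h7 : 2 * (v k * form cs h v (sr k)) = v k * (2 * form cs h v (sr k)) := by ring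
            rw [h7]
            exact mul_nonpos_of_nonneg_of_nonpos (hR.pos v hv k) h6
          omega
        obtain ⟨j, hj⟩ := h1
        have h2 := hR.perm j v hv (hs j)
        have h3 : refl A j v = v - pairing A j v • sr j := by
          rw [← rep_simple cs h, rep_simple_eq]
        have h4 : ∑ k, refl A j v k = ∑ k, v k - pairing A j v := by
          rw [h3]
          simp only [Pi.sub_apply, Pi.smul_apply, smul_eq_mul, Finset.sum_sub_distrib, ← Finset.mul_sum]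
          have h5 : ∑ k, (sr j : I → ℤ) k = 1 := by
            unfold sr
            rw [Finset.sum_pi_single']
            simp
          rw [h5, mul_one]
        have h5 := ih _ h2 (by
          rw [h4]
          push_cast at hN
          omega)
        have h6 := h5.act (cs.simple j)
        rw [rep_simple, refl_refl h] at h6
        exact h6
  obtain ⟨N, hN⟩ := Int.eq_ofNat_of_zero_le (Finset.sum_nonneg fun k (_ : k ∈ Finset.univ) => hR.pos v hv k)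
  exact key N v hv (by rw [hN])

end

theorem two_of_length {α : Type*} {l : List α} (hn : l.Nodup) (h : 2 ≤ l.length) : ∃ a ∈ l, ∃ b ∈ l, a ≠ b := by
  match l, hn, h with
  | a :: b :: l, hn, _ =>
    refine ⟨a, List.mem_cons_self, b, List.mem_cons_of_mem _ List.mem_cons_self, ?_⟩
    rintro rfl
    exact (List.nodup_cons.1 hn).1 List.mem_cons_self

/-! ### two commutators -/

section Two

variable {k : ℕ} {W Y : Type*} [Group W] [Group Y] {M : CoxeterMatrix (Fin k)} {cs : CoxeterSystem M W}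
  {A : Fin k → Fin k → ℤ} {h : IsCartan M A} {T : Subgroup Y} {n : Fin k → Y} {X : (Fin k → ℤ) → Subgroup Y}

/-- the roots `r` with `r i = 0` have two partners -/
def Par (cs : CoxeterSystem M W) (h : IsCartan M A) (i : Fin k) : Prop :=
  ∀ r ∈ RGD.Pos cs h, r i = 0 → ∃ t ∈ RGD.Pos cs h, ∃ t' ∈ RGD.Pos cs h,
    t ≠ t' ∧ 0 < t i ∧ 0 < t' i ∧ cpr cs h r t = -1 ∧ cpr cs h r t' = -1

theorem par_of_list [Finite W] (hs : SL cs h) {L : List (Fin k → ℤ)} (hR : PosRoots A L.toFinset) (hn : L.Nodup)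
    {i : Fin k} (hd : ∀ r ∈ L, r i = 0 →
      2 ≤ (L.filter fun t => 0 < t i ∧ ∑ j, t j * pairing A j r = -1).length) : Par cs h i := by
  intro r hr hr0
  obtain ⟨t, ht, t', ht', hne⟩ := two_of_length (hn.filter _) (hd r (List.mem_toFinset.1 (mem_of_pos hR hr)) hr0)
  rw [List.mem_filter, decide_eq_true_eq] at ht ht'
  have hmem : ∀ {t}, t ∈ L → t ∈ RGD.Pos cs h := fun {t} ht =>
    ⟨isRoot_of_mem hR (List.mem_toFinset.2 ht), hR.pos t (List.mem_toFinset.2 ht)⟩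
  refine ⟨t, hmem ht.1, t', hmem ht'.1, hne, ht.2.1, ht'.2.1, ?_, ?_⟩
  · rw [cpr_eq hs hr.1 (hmem ht.1).1, ht.2.2]
  · rw [cpr_eq hs hr.1 (hmem ht'.1).1, ht'.2.2]

theorem two_comm [Finite W] (R : RGD cs h 2 T n X) (hs : SL cs h) (h2 : ∀ j, Nat.card (X (sr j)) = 2) {i : Fin k}
    (hp : Par cs h i) {c : Y} (hc : c ∈ RGD.Sup X (RGD.Pos cs h)) (hcJ : c ∉ VJ cs h X {i}ᶜ) :
    ∃ x ∈ VJ cs h X {i}ᶜ, ∃ y ∈ VJ cs h X {i}ᶜ, ⁅c, x⁆ ≠ 1 ∧ ⁅c, y⁆ ≠ 1 ∧ ⁅c, x⁆ ≠ ⁅c, y⁆ := by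
  classical
  obtain ⟨g, cut, fn⟩ := exists_fn (cs := cs) (h := h) i
  have hab : ∀ x, IsRoot cs h x → ∀ a ∈ X x, ∀ b ∈ X x, a * b = b * a := fun x hx => (X_comm' R h2 hx).2
  have C := com R hs fn hab
  have hcU : c ∈ U (PF cs h) X g 0 := by
    have : RGD.Sup X (RGD.Pos cs h) ≤ U (PF cs h) X g 0 :=
      RGD.Sup_le fun x hx => le_U (mem_PF.2 hx) (Nat.zero_le _)
    exact this hc
  have hc1 : c ≠ 1 := by
    rintro rfl
    exact hcJ (one_mem _)
  obtain ⟨K, hK⟩ := exists_U_eq_bot (PF cs h) X g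
  obtain ⟨k, h3, h4⟩ : ∃ k, c ∈ U (PF cs h) X g k ∧ c ∉ U (PF cs h) X g (k + 1) := by
    by_contra hcon
    push Not at hcon
    have h5 : ∀ k, c ∈ U (PF cs h) X g k := by
      intro k
      induction k with
      | zero => exact hcU
      | succ k ih => exact hcon k ih
    have h6 := h5 K
    rw [hK, Subgroup.mem_bot] at h6
    exact hc1 h6
  obtain ⟨r, hr, rfl⟩ : ∃ r ∈ PF cs h, g r = k := by
    by_contra hcon
    push Not at hcon
    rw [U_succ_eq hcon] at h3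
    exact h4 h3
  have hr' := mem_PF.1 hr
  have hr0 : r i = 0 := by
    by_contra hne
    have h5 : 0 ≤ r i := hr'.2 i
    have h6 : cut ≤ g r := (fn.cut r hr').2 (by omega)
    apply hcJ
    have h7 : U (PF cs h) X g (g r) ≤ VJ cs h X {i}ᶜ := by
      refine U_le fun x hx hk => ?_
      rw [mem_PF] at hx
      have h8 := (fn.cut x hx).1 (h6.trans hk)
      exact RGD.le_Sup (S := NotJ cs h {i}ᶜ) ⟨hx.1, hx.2, i, fun h0 => h0 rfl, by omega⟩
    exact h7 h3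
  obtain ⟨b, hb, w, hw, e⟩ := C.exists_mul hr h3
  have hb1 : b ≠ 1 := by
    rintro rfl
    rw [one_mul] at e
    exact h4 (e ▸ hw)
  -- the commutator with an element of `X t`
  have key : ∀ t ∈ RGD.Pos cs h, 0 < t i → cpr cs h r t = -1 → ∃ x ∈ VJ cs h X {i}ᶜ,
      ⁅c, x⁆ ∈ U (PF cs h) X g (g r + g t) ∧ ⁅c, x⁆ ∉ U (PF cs h) X g (g r + g t + 1) := by
    intro t ht hti htc
    obtain ⟨x, hx, hx1⟩ : ∃ x ∈ X t, x ≠ 1 := by
      by_contra hcon
      push Not at hcon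
      have h5 := (Subgroup.eq_bot_iff_forall _).2 hcon
      have h6 := (X_comm' R h2 ht.1).1
      rw [h5, Subgroup.card_bot] at h6
      omega
    refine ⟨x, RGD.le_Sup (S := NotJ cs h {i}ᶜ) ⟨ht.1, ht.2, i, fun h0 => h0 rfl, hti⟩ hx,
      C.comm_mem h3 (le_U (mem_PF.2 ht) le_rfl hx), fun h5 => ?_⟩
    refine comm_not_mem R hs fn hr' ht htc hb hb1 hx hx1 ?_
    rw [fn.add r hr' t ht]
    refine C.comm_lead (le_U hr le_rfl hb) (le_U (mem_PF.2 ht) le_rfl hx) hw (one_mem _) ?_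
    rw [mul_one, ← e]
    exact h5
  obtain ⟨t, ht, t', ht', hne, ht0, ht0', htc, htc'⟩ := hp r hr' hr0
  have hg : g t ≠ g t' := fun h0 => hne (fn.inj t ht t' ht' h0)
  obtain ⟨x, hx, hx1, hx2⟩ := key t ht ht0 htc
  obtain ⟨y, hy, hy1, hy2⟩ := key t' ht' ht0' htc'
  refine ⟨x, hx, y, hy, fun h0 => hx2 (h0 ▸ one_mem _), fun h0 => hy2 (h0 ▸ one_mem _), fun h0 => ?_⟩
  rcases lt_or_gt_of_ne hg with h5 | h5
  · exact hx2 (h0 ▸ U_anti (by omega) hy1)
  · exact hy2 (h0 ▸ U_anti (by omega) hx1)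

end Two

theorem n_mem_PJ {I W Y : Type*} [Fintype I] [DecidableEq I] [Group W] [Group Y] {M : CoxeterMatrix I}
    {cs : CoxeterSystem M W} {A : I → I → ℤ} {h : IsCartan M A} {p : ℕ} {T : Subgroup Y} {n : I → Y}
    {X : (I → ℤ) → Subgroup Y} (R : RGD cs h p T n X) (i : I) : n i ∈ PJ cs h T X {i} := by
  obtain ⟨u, hu, hu1⟩ := exists_ne_one R i
  have h1 : n i * u * (n i)⁻¹ ∈ X (-sr i) := by
    have := R.conj_mem (rp_simple cs R.nsys i) (isRoot_sr cs h i) hu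
    rwa [rep_simple_sr] at this
  have h2 : n i * u * (n i)⁻¹ ≠ 1 := fun h3 => hu1 (mul_eq_left.1 (mul_inv_eq_one.1 h3))
  obtain ⟨a, ha, t, ht, b, hb, e⟩ := R.rk1 i _ h1 h2
  set v := n i * u * (n i)⁻¹ with hv
  have e1 : n i = t⁻¹ * a⁻¹ * v * b⁻¹ := by rw [e]; group
  have hX : X (sr i) ≤ PJ cs h T X {i} := by
    refine le_trans ?_ LJ_le_PJ
    refine le_trans (RGD.le_Sup (S := RootsJ cs h {i}) ⟨isRoot_sr cs h i, fun k hk => sr_ne hk⟩) le_sup_right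
  have hX' : X (-sr i) ≤ PJ cs h T X {i} := by
    refine le_trans ?_ LJ_le_PJ
    refine le_trans (RGD.le_Sup (S := RootsJ cs h {i}) ⟨(isRoot_sr cs h i).neg, fun k hk => ?_⟩) le_sup_right
    rw [Pi.neg_apply, sr_ne hk, neg_zero]
  have hT : T ≤ PJ cs h T X {i} := le_trans le_sup_left LJ_le_PJ
  rw [e1]
  exact mul_mem (mul_mem (mul_mem (inv_mem (hT ht)) (inv_mem (hX ha))) (hX' h1)) (inv_mem (hX hb))

/-! ### `L = ⊤` -/

section Top

variable {l : ℕ} {M : CoxeterMatrix (Fin l)} {A : Fin l → Fin l → ℤ} {h : IsCartan M A}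
  {H : Type*} [Group H] [Finite H] {L : Subgroup H} [L.Normal] {T : Subgroup L} {n : Fin l → L}
  {X : (Fin l → ℤ) → Subgroup L} {i : Fin l}

/-- the frame argument, with `U` -/
theorem exists_frame2 [Finite M.Group] (R : RGD M.toCoxeterSystem h 2 T n X)
    (hG : GG M.toCoxeterSystem h T X = ⊤) (g : H) :
    ∃ u : L, ∃ σ : Equiv.Perm (Fin l), Diag T X (cn L ((u : H) * g)) σ ∧
      KFacts.RgdAut.Fix (cn L ((u : H) * g)) (RGD.Sup X (RGD.Pos M.toCoxeterSystem h)) := by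
  have : Fact (Nat.Prime 2) := ⟨Nat.prime_two⟩
  obtain ⟨S, hS⟩ := (R.isPGroup_Upos (cs := M.toCoxeterSystem) (h := h)).exists_le_sylow
  have hSU : (S : Subgroup L) = RGD.Sup X (RGD.Pos M.toCoxeterSystem h) :=
    Nodes.NormalForm.eq_U_of_isPGroup R S.isPGroup' hS (by rw [hG]; exact le_top)
  let S' : Sylow 2 L := cn L g • S
  obtain ⟨l', hl⟩ := MulAction.exists_smul_eq L S' S
  have h1 : KFacts.RgdAut.Fix (cn L ((l' : H) * g)) (RGD.Sup X (RGD.Pos M.toCoxeterSystem h)) := by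
    rw [KFacts.RgdAut.fix_iff, cn_mul, cn_coe, ← hSU]
    have h2 : ((l' • S' : Sylow 2 L) : Subgroup L) = S := by rw [hl]
    rw [coe_smul_smul] at h2
    exact h2
  obtain ⟨u, hu, h2, h3, h4, h5, h6⟩ := KFacts.RgdAut.exists_frame R hG h1
  have e : cn L (((u * l' : L) : H) * g) = MulAut.conj u * cn L ((l' : H) * g) := by
    rw [Subgroup.coe_mul, mul_assoc, cn_mul, cn_coe]
  rw [← e] at h2 h4
  obtain ⟨σ, hσ⟩ := exists_diag R hG h2 h4
  exact ⟨u * l', σ, hσ, h2⟩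

/-- **`L = ⊤`** -/
theorem eq_top [Finite M.Group] {V : Type*} [AddCommGroup V] [Module (ZMod 2) V]
    {ρ : H →* (V ≃ₗ[ZMod 2] V)} {a : V} (hinj : Function.Injective ρ)
    (hirr : ∀ W : Submodule (ZMod 2) V, (∀ g, ∀ v ∈ W, ρ g v ∈ W) → W = ⊥ ∨ W = ⊤) (ha : a ≠ 0)
    (R : RGD M.toCoxeterSystem h 2 T n X) (hG : GG M.toCoxeterSystem h T X = ⊤)
    (hj : ∃ j, j ≠ i)
    (hfix : ∀ j, j ≠ i → ∀ g ∈ PJ M.toCoxeterSystem h T X {j}, ρ (g : H) a = a)
    (hq : ∀ j, Nat.card (X (sr j)) = 2)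
    (hcent : ∀ v, (∀ u ∈ RGD.Sup X (RGD.Pos M.toCoxeterSystem h), ρ (u : H) v = v) → v = 0 ∨ v = a)
    (hsym : ∀ σ : Equiv.Perm (Fin l), (∀ i j, M (σ i) (σ j) = M i j) → σ i = i → σ = 1) : L = ⊤ := by
  have : Fact (Nat.Prime 2) := ⟨Nat.prime_two⟩
  obtain ⟨j0, hj0⟩ := hj
  have hmul : ∀ (g k : H) (v : V), ρ (g * k) v = ρ g (ρ k v) := by
    intro g k v
    rw [map_mul]; rfl
  have hone : ∀ v : V, ρ 1 v = v := by
    intro v
    rw [map_one]; rfl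
  have hinv : ∀ {g : H}, ρ g a = a → ρ g⁻¹ a = a := by
    intro g hg
    conv_lhs => rw [← hg]
    rw [← hmul, inv_mul_cancel, hone]
  have hBa : ∀ u ∈ RGD.B M.toCoxeterSystem h T X, ρ (u : H) a = a := fun u hu => hfix j0 hj0 u (B_le_PJ hu)
  have hUa : ∀ u ∈ RGD.Sup X (RGD.Pos M.toCoxeterSystem h), ρ (u : H) a = a := fun u hu => hBa u (RGD.U_le_B hu)
  have hC : ∀ c : H, (∀ x ∈ (EH3.Kf.Idx.G1 M.toCoxeterSystem h X : Subgroup H), x * c = c * x) → c = 1 :=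
    fun c hc => EH3.Kf.Idx.cent_G1 R hG hinj hirr ha hUa hcent hc
  -- `n i` moves `a`
  have hni : ρ (n i : H) a ≠ a := by
    intro hni
    have hn : ∀ j, ρ (n j : H) a = a := by
      intro j
      by_cases hji : j = i
      · rw [hji]; exact hni
      · exact hfix j hji _ (n_mem_PJ R j)
    have hw : ∀ w : M.Group, ∃ g, Rp M.toCoxeterSystem R.nsys w g ∧ ρ (g : H) a = a := by
      intro w
      obtain ⟨ω, rfl⟩ := M.toCoxeterSystem.wordProd_surjective w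
      induction ω with
      | nil => exact ⟨1, by rw [wordProd_nil]; exact rp_one, by rw [Subgroup.coe_one, hone]⟩
      | cons j ω ih =>
        obtain ⟨g, hg, hga⟩ := ih
        refine ⟨n j * g, ?_, ?_⟩
        · rw [wordProd_cons]; exact (rp_simple M.toCoxeterSystem R.nsys j).mul hg
        · rw [Subgroup.coe_mul, hmul, hga, hn]
    let S : Subgroup L :=
      { carrier := {g | ρ (g : H) a = a}
        one_mem' := hone a
        mul_mem' := by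
          intro g k (hg : ρ (g : H) a = a) (hk : ρ (k : H) a = a)
          show ρ ((g * k : L) : H) a = a
          rw [Subgroup.coe_mul, hmul, hk, hg]
        inv_mem' := by
          intro g (hg : ρ (g : H) a = a)
          show ρ ((g⁻¹ : L) : H) a = a
          rw [Subgroup.coe_inv]
          exact hinv hg }
    have hS : GG M.toCoxeterSystem h T X ≤ S := by
      refine sup_le (fun t ht => hBa t (RGD.T_le_B ht)) ?_
      refine RGD.Sup_le ?_
      rintro _ ⟨w, j, rfl⟩ u hu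
      obtain ⟨g, hg, hga⟩ := hw w
      have h1 : g⁻¹ * u * g ∈ X (sr j) := by
        have := R.conj_mem' hg ((isRoot_sr M.toCoxeterSystem h j).act w) hu
        rwa [rep_inv_apply] at this
      have h2 : (g⁻¹ * u * g : L) ∈ S := hBa _ (RGD.X_le_B (isRoot_sr M.toCoxeterSystem h j) (sr_nonneg j) h1)
      have h3 : u = g * (g⁻¹ * u * g) * g⁻¹ := by group
      rw [h3]
      exact mul_mem (mul_mem hga h2) (inv_mem (show g ∈ S from hga))
    rw [hG] at hS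
    let F : Submodule (ZMod 2) V :=
      { carrier := {v | ∀ x ∈ L, ρ x v = v}
        zero_mem' := fun x _ => map_zero _
        add_mem' := by
          intro v w hv hw x hx
          show ρ x (v + w) = v + w
          rw [map_add, hv x hx, hw x hx]
        smul_mem' := by
          intro r v hv x hx
          show ρ x (r • v) = r • v
          rw [map_smul, hv x hx] }
    have haF : a ∈ F := fun x hx => hS (Subgroup.mem_top (⟨x, hx⟩ : L))
    have h1 := hirr F (by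
      intro g v hv x hx
      have h2 := (inferInstance : L.Normal).conj_mem x hx g⁻¹
      rw [inv_inv] at h2
      have h3 : x * g = g * (g⁻¹ * x * g) := by group
      rw [← hmul, h3, hmul, hv _ h2])
    rcases h1 with h1 | h1
    · rw [h1] at haF
      exact ha haF
    · obtain ⟨u, hu, hu1⟩ := exists_ne_one R i
      apply hu1
      apply Subtype.ext
      apply hinj
      ext v
      have h2 : v ∈ F := by rw [h1]; trivial
      have h3 := h2 (u : H) u.2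
      rw [h3]
      show v = ρ ((1 : L) : H) v
      rw [Subgroup.coe_one, hone]
  rw [eq_top_iff]
  rintro g -
  obtain ⟨u, σ, hσ, hU⟩ := exists_frame2 R hG g
  -- `g' = u g` fixes `a`
  have hga : ρ ((u : H) * g) a = a := by
    have h1 := hcent (ρ ((u : H) * g) a) (by
      intro x hx
      have h2 : (cn L ((u : H) * g))⁻¹ x ∈ RGD.Sup X (RGD.Pos M.toCoxeterSystem h) := hU.inv x |>.2 hx
      have h3 : (x : H) * ((u : H) * g) = ((u : H) * g) * (((cn L ((u : H) * g))⁻¹ x : L) : H) := by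
        have h4 := cn_apply (L := L) ((u : H) * g) ((cn L ((u : H) * g))⁻¹ x)
        rw [MulAut.apply_inv_self] at h4
        rw [h4]; group
      rw [← hmul, h3, hmul, hUa _ h2])
    rcases h1 with h1 | h1
    · exfalso
      apply ha
      apply (ρ ((u : H) * g)).injective
      rw [h1, map_zero]
    · exact h1
  have hσi : σ i = i := by
    by_contra hne
    apply hni
    have h1 : (n (σ i))⁻¹ * cn L ((u : H) * g) (n i) ∈ T :=
      (rp_simple M.toCoxeterSystem R.nsys (σ i)).unique (hσ.rp (R := R) i)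
    have h2 : ρ ((cn L ((u : H) * g) (n i) : L) : H) a = a := by
      have h3 : cn L ((u : H) * g) (n i) = n (σ i) * ((n (σ i))⁻¹ * cn L ((u : H) * g) (n i)) := by group
      rw [h3, Subgroup.coe_mul, hmul, hBa _ (RGD.T_le_B h1)]
      exact hfix (σ i) hne _ (n_mem_PJ R (σ i))
    rw [cn_apply, hmul, hmul, hinv hga] at h2
    have h3 : ρ ((u : H) * g) (ρ (n i : H) a) = ρ ((u : H) * g) a := by rw [h2, hga]
    exact (ρ ((u : H) * g)).injective h3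
  have hσ1 := hsym σ (fun i j => Diag.matrix R hσ i j) hσi
  subst hσ1
  have h1 : (u : H) * g = 1 := EH3.Kf.Idx.eq_one_of_fix' R hC (mem_N1.2 hσ) fun i x hx =>
    EH3.Kf.Idx.fix_of_two (hq i) (mem_N1.2 hσ) hx
  have h2 : g = (u : H)⁻¹ := eq_inv_of_mul_eq_one_right h1
  rw [h2]
  exact inv_mem u.2

end Top

/-! ### the rows -/

theorem symD' {i : Fin 6} (hi : i = 4 ∨ i = 5) (σ : Equiv.Perm (Fin 6))
    (hσ : ∀ i j, Nodes.TypeD.M 4 (σ i) (σ j) = Nodes.TypeD.M 4 i j) (h0 : σ i = i) : σ = 1 := by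
  have h : ∀ i j, tD (σ i) (σ j) = tD i j := by
    intro i j
    rw [← tD_eq, ← tD_eq]
    exact hσ i j
  rcases keyD (σ 0) (σ 1) (by rw [h]; decide) (σ 2) (by rw [h]; decide) (by rw [h]; decide) (σ 3) (by rw [h]; decide)
    (by rw [h]; decide) (σ 4) (by rw [h]; decide) (by rw [h]; decide) (σ 5) (by rw [h]; decide) (by rw [h]; decide)
    (by rw [h]; decide) with ⟨h0, h1, h2, h3, h4, h5⟩ | ⟨-, -, -, -, h4, h5⟩
  · ext i
    congr 1
    fin_cases i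
    · exact h0
    · exact h1
    · exact h2
    · exact h3
    · exact h4
    · exact h5
  · exfalso
    rcases hi with rfl | rfl
    · rw [h4] at h0
      exact absurd h0 (by decide)
    · rw [h5] at h0
      exact absurd h0 (by decide)

theorem par_D6 {W : Type*} [Group W] [Finite W] {cs : CoxeterSystem (Nodes.TypeD.M 4) W}
    {A : Fin 6 → Fin 6 → ℤ} {h : IsCartan (Nodes.TypeD.M 4) A} {i : Fin 6} (hi : i = 4 ∨ i = 5) :
    Par cs h i := by
  have e : A = AD6 := cartan_eq h isCartan_D6 ne_D6.1 ne_D6.2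
  subst e
  have hs : SL cs h := fun _ _ hx hy => Nodes.SimplyLaced.cpr_symm cs h ne_D6.1 ne_D6.2 hx hy
  rcases hi with rfl | rfl
  · exact par_of_list hs posRoots_D6 nodup_D6 (by decide +kernel)
  · exact par_of_list hs posRoots_D6 nodup_D6 (by decide +kernel)

theorem par_E7 {W : Type*} [Group W] [Finite W] {cs : CoxeterSystem CoxeterMatrix.E₇ W}
    {A : Fin 7 → Fin 7 → ℤ} {h : IsCartan CoxeterMatrix.E₇ A} : Par cs h 6 := by
  have e : A = AE7 := cartan_eq h isCartan_E7 ne_E7.1 ne_E7.2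
  subst e
  have hs : SL cs h := fun _ _ hx hy => Nodes.SimplyLaced.cpr_symm cs h ne_E7.1 ne_E7.2 hx hy
  exact par_of_list hs posRoots_E7 (by decide +kernel) (by decide +kernel)

section Row

variable {l : ℕ} {M : CoxeterMatrix (Fin l)} {A : Fin l → Fin l → ℤ} {h : IsCartan M A}
  {H V : Type*} [Group H] [AddCommGroup V] [Module (ZMod 2) V] {ρ : H →* (V ≃ₗ[ZMod 2] V)}
  {b : LinearMap.BilinForm (ZMod 2) V} {q' : V → ZMod 2} {a : V} {D : Submodule (ZMod 2) V} {X0 : Subgroup H}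
  {w : ℕ} {L : Subgroup H} {T : Subgroup L} {n : Fin l → L} {X : (Fin l → ℤ) → Subgroup L} {i : Fin l}

/-- **No involution `c` with `|[V, c]| = 4`.** -/
theorem no_four_of [Finite M.Group] (C : EH3.Cfg ρ b q' a D X0 w) (hL : L.Normal)
    (hX : X0 = (VJ M.toCoxeterSystem h X {i}ᶜ).map L.subtype)
    (R : RGD M.toCoxeterSystem h 2 T n X) (hG : GG M.toCoxeterSystem h T X = ⊤)
    (hj : ∃ j, j ≠ i)
    (hfix : ∀ j, j ≠ i → ∀ g ∈ PJ M.toCoxeterSystem h T X {j}, ρ (g : H) a = a)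
    (hq : ∀ j, Nat.card (X (sr j)) = 2)
    (hcent : ∀ v, (∀ u ∈ RGD.Sup X (RGD.Pos M.toCoxeterSystem h), ρ (u : H) v = v) → v = 0 ∨ v = a)
    (hsym : ∀ σ : Equiv.Perm (Fin l), (∀ i j, M (σ i) (σ j) = M i j) → σ i = i → σ = 1)
    (hs : SL M.toCoxeterSystem h) (hp : Par M.toCoxeterSystem h i)
    {c : H} (hc : c * c = 1) {W : Submodule (ZMod 2) V} (hW : ∀ x, x ∈ W ↔ ∃ u, ρ c u + u = x) :
    Nat.card W ≠ 4 := by
  classical
  intro h4
  have : Fact (Nat.Prime 2) := ⟨Nat.prime_two⟩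
  have := C.finite_H
  obtain ⟨j0, hj0⟩ := hj
  have hUa : ∀ u ∈ RGD.Sup X (RGD.Pos M.toCoxeterSystem h), ρ (u : H) a = a := fun u hu =>
    hfix j0 hj0 u (B_le_PJ (RGD.U_le_B hu))
  have hLt := eq_top (i := i) C.inj C.irr C.a_ne R hG ⟨j0, hj0⟩ hfix hq hcent hsym
  have hcL : c ∈ L := by rw [hLt]; exact Subgroup.mem_top c
  -- a conjugate of `c` in `U`
  have hc2 : (⟨c, hcL⟩ : L) * ⟨c, hcL⟩ = 1 := Subtype.ext hc
  have hpg : IsPGroup 2 (Subgroup.zpowers (⟨c, hcL⟩ : L)) := by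
    refine IsPGroup.of_card (n := if (⟨c, hcL⟩ : L) = 1 then 0 else 1) ?_
    rw [Nat.card_zpowers]
    split_ifs with h0
    · rw [h0, orderOf_one, pow_zero]
    · rw [pow_one]
      exact orderOf_eq_prime (by rw [pow_two]; exact hc2) h0
  obtain ⟨g, hg⟩ := KFacts.RgdBorelTits.exists_conj_U hG hpg R
  have hu := hg (Subgroup.mem_zpowers _)
  rw [mem_cj] at hu
  obtain ⟨u, hu'⟩ : ∃ u : L, u = g⁻¹ * ⟨c, hcL⟩ * g := ⟨_, rfl⟩
  rw [← hu'] at hu
  have hucoe : (u : H) = (g : H)⁻¹ * c * g := by rw [hu']; rfl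
  have huu : (u : H) * u = 1 := by
    rw [hucoe]
    have : (g : H)⁻¹ * c * g * ((g : H)⁻¹ * c * g) = (g : H)⁻¹ * (c * c) * g := by group
    rw [this, hc]; group
  let W' : Submodule (ZMod 2) V := W.map (ρ (g : H)⁻¹ : V →ₗ[ZMod 2] V)
  have hW' : ∀ x, x ∈ W' ↔ ∃ v, ρ (u : H) v + v = x := by
    intro x
    constructor
    · rintro ⟨y, hy, rfl⟩
      obtain ⟨v, rfl⟩ := (hW y).1 hy
      refine ⟨ρ (g : H)⁻¹ v, ?_⟩
      show _ = ρ (g : H)⁻¹ (ρ c v + v)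
      rw [map_add, hucoe, ← C.ρ_mul, ← C.ρ_mul]
      congr 3
      group
    · rintro ⟨v, rfl⟩
      refine ⟨ρ c (ρ (g : H) v) + ρ (g : H) v, (hW _).2 ⟨_, rfl⟩, ?_⟩
      show ρ (g : H)⁻¹ (ρ c (ρ (g : H) v) + ρ (g : H) v) = _
      rw [map_add, C.ρ_inv_apply, hucoe, ← C.ρ_mul, ← C.ρ_mul]
  have h4' : Nat.card W' = 4 := by
    rw [← h4]
    exact (Nat.card_congr (Submodule.equivMapOfInjective (ρ (g : H)⁻¹ : V →ₗ[ZMod 2] V)
      (ρ (g : H)⁻¹).injective W).toEquiv).symm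
  have hua : ρ (u : H) a = a := hUa u hu
  by_cases hu1 : u = 1
  · have h5 : ∀ x ∈ W', x = 0 := by
      intro x hx
      obtain ⟨v, rfl⟩ := (hW' x).1 hx
      rw [hu1, Subgroup.coe_one, C.ρ_one, C.add_self]
    have h6 : W' = ⊥ := (Submodule.eq_bot_iff _).2 h5
    rw [h6, Nat.card_unique] at h4'
    omega
  · have hu1' : (u : H) ≠ 1 := fun h0 => hu1 (Subtype.ext h0)
    have h5 := NoFourCfg.not_mem_X C huu hW' h4' hu1'
    have h6 : u ∉ VJ M.toCoxeterSystem h X {i}ᶜ := by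
      intro h7
      apply h5
      rw [hX]
      exact ⟨u, h7, rfl⟩
    obtain ⟨x, hx, y, hy, h7, h8, h9⟩ := two_comm R hs hq hp hu h6
    have hx' : (x : H) ∈ X0 := by rw [hX]; exact ⟨x, hx, rfl⟩
    have hy' : (y : H) ∈ X0 := by rw [hX]; exact ⟨y, hy, rfl⟩
    have e1 : ⁅(u : H), (x : H)⁆ = (⁅u, x⁆ : L) := rfl
    have e2 : ⁅(u : H), (y : H)⁆ = (⁅u, y⁆ : L) := rfl
    have h10 := NoFourCfg.comm_eq C huu hW' h4' hua hx' hy' (by
      rw [e1]; exact fun h0 => h7 (Subtype.ext h0)) (by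
      rw [e2]; exact fun h0 => h8 (Subtype.ext h0))
    rw [e1, e2] at h10
    exact h9 (Subtype.ext h10)

end Row

/-- **No involution `c` of `H` with `|[V, c]| = 4`, rows `D₆`, `E₇`.** -/
theorem no_four {G : Type*} [Group G] {Q A : Subgroup G} {z a : G} {p : LargeExtra.Base.Pair Q z A a} {w l : ℕ}
    {M : CoxeterMatrix (Fin l)} {q : Fin l → ℕ} {i : Fin l} {A' : Fin l → Fin l → ℤ} {h : IsCartan M A'}
    {L : Subgroup p.H} {T : Subgroup L} {n : Fin l → L} {X : (Fin l → ℤ) → Subgroup L}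
    (C : EH3.Cfg (p.H.subtype : p.H →* (p.lz.V ≃ₗ[ZMod 2] p.lz.V)) p.lz.b p.lz.q p.va p.D (p.X.subgroupOf p.H) w)
    (D : Fin4.At p q i h L T n X) (hw : w ≠ 10) {c : p.H} (hc : c * c = 1)
    {W : Submodule (ZMod 2) p.lz.V} (hW : ∀ x, x ∈ W ↔ ∃ u, (c : p.lz.V ≃ₗ[ZMod 2] p.lz.V) u + u = x) :
    Nat.card W ≠ 4 := by
  have := D.fin
  -- `w ≠ 10`
  have hv : Nat.card (VJ M.toCoxeterSystem h X {i}ᶜ) ≠ 2 ^ 9 := by
    intro h9
    apply hw
    have h1 := C.card_X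
    rw [D.X0, Subgroup.card_map_of_injective (Subgroup.subtype_injective L), h9] at h1
    have h2 := Nat.pow_right_injective (le_refl 2) h1
    have h3 := C.five
    omega
  cases D.good with
  | A5 => exact absurd (Numb.card_A5 D.rgd D.card).2 hv
  | D6 =>
    exact no_four_of C D.normal D.X0 D.rgd D.gen ⟨0, by decide⟩ D.fix D.card D.cent (symD' (Or.inl rfl))
      (fun _ _ hx hy => Nodes.SimplyLaced.cpr_symm _ h ne_D6.1 ne_D6.2 hx hy) (par_D6 (Or.inl rfl)) hc hW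
  | D6' =>
    exact no_four_of C D.normal D.X0 D.rgd D.gen ⟨0, by decide⟩ D.fix D.card D.cent (symD' (Or.inr rfl))
      (fun _ _ hx hy => Nodes.SimplyLaced.cpr_symm _ h ne_D6.1 ne_D6.2 hx hy) (par_D6 (Or.inr rfl)) hc hW
  | E7 =>
    exact no_four_of C D.normal D.X0 D.rgd D.gen ⟨0, by decide⟩ D.fix D.card D.cent
      (fun σ h1 _ => EH3.Kf.Idx.uE σ h1)
      (fun _ _ hx hy => Nodes.SimplyLaced.cpr_symm _ h ne_E7.1 ne_E7.2 hx hy) par_E7 hc hW
  | C3 => exact absurd (Numb.card_B3 D.rgd D.card).2 hv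

end Cfsg.Agent.Omega.EH3Close.NoFour

end

-- merged: Cfsg.Agent.Mrg.Omega.EH3Close.Closing
section

/-!
# The closing theorem of the four Lie rows of EH3 (helper805)

`loc_le` : `D : At p q i h L T n X`, `S` a Sylow 2-subgroup in `C_G(z)`: every member of `L(S)` normalises
`⟨A, MM p L⟩`.
-/

set_option autoImplicit false
set_option linter.unusedSectionVars false

namespace Cfsg.Agent.Omega.EH3Close.Closing

open CoxeterSystem Cfsg.Agent.ChevalleyStructure.CoxeterGeom Cfsg.Agent.Tits.Roots Cfsg.Agent.Tits.Core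
  Cfsg.Agent.Tits.RootComb Cfsg.Agent.Nodes.Comb Cfsg.Agent.Nodes.Reps Cfsg.Agent.Nodes.BNOf
  Cfsg.Agent.Nodes.StabComb Cfsg.Agent.Nodes.Bruhat Cfsg.Agent.Nodes.LeviDec Cfsg.Agent.Nodes.NormalForm
  Cfsg.Agent.Omega.EH3 Cfsg.Agent.Co2Type.Quad Cfsg.Agent.LargeExtra.Base
  Cfsg.Agent.Omega.EH3Close.Glue Cfsg.Agent.Omega.EH3Close.Fin4 Cfsg.Agent.Omega.EH3Close.AtLoc
  Cfsg.Agent.Omega.EH3Close.FourTen
open Cfsg.Agent.Omega.EH3.Kf.Goal (Good)
open Cfsg.Agent.Omega.MinPar (IsLoc)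

variable {G : Type*} [Group G] {Q A : Subgroup G} {z a : G} [Finite G] {p : Pair Q z A a} {l : ℕ}
  {M : CoxeterMatrix (Fin l)} {q : Fin l → ℕ} {i : Fin l} {A' : Fin l → Fin l → ℤ} {h : IsCartan M A'}
  {L : Subgroup p.H} {T : Subgroup L} {n : Fin l → L} {X : (Fin l → ℤ) → Subgroup L} {w : ℕ}

theorem w_eq (C : Cfg (p.H.subtype : p.H →* (p.lz.V ≃ₗ[ZMod 2] p.lz.V)) p.lz.b p.lz.q p.va p.D (p.X.subgroupOf p.H) w)
    (D : At p q i h L T n X) {v : ℕ} (hv : Nat.card (VJ M.toCoxeterSystem h X {i}ᶜ) = 2 ^ v) : w = v + 1 := by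
  have h1 := C.card_X
  rw [D.X0, Subgroup.card_map_of_injective L.subtype_injective, hv] at h1
  have h2 := Nat.pow_right_injective le_rfl h1
  have h3 := C.five
  have h4 : v = w - 1 := h2
  omega

/-- the bounds -/
theorem bound (C : Cfg (p.H.subtype : p.H →* (p.lz.V ≃ₗ[ZMod 2] p.lz.V)) p.lz.b p.lz.q p.va p.D (p.X.subgroupOf p.H) w)
    (D : At p q i h L T n X) : ∃ b : ℕ, 2 * b * 16 ≤ 2 ^ w ∧
      (∀ Ab : Subgroup L, Ab ≤ RGD.Sup X (RGD.Pos M.toCoxeterSystem h) → (∀ x ∈ Ab, ∀ y ∈ Ab, x * y = y * x) →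
      (∀ g ∈ RGD.Sup X (RGD.Pos M.toCoxeterSystem h), ∀ x ∈ Ab, g * x * g⁻¹ ∈ Ab) →
      (∀ x ∈ Ab, ∀ y ∈ Ab, ∀ v, rho p L x (rho p L y v + v) = rho p L y v + v) → Nat.card Ab ≤ b) ∧
      (w = 10 → Nat.card (RGD.Sup X (RGD.Pos M.toCoxeterSystem h)) = 2 ^ 15) := by
  have := finite_H (p := p)
  have := D.fin
  have hm := mod C D
  have hg := D.good
  cases hg with
  | A5 =>
    obtain ⟨h1, h2⟩ := Numb.card_A5 D.rgd D.card
    have hw := w_eq C D h2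
    subst hw
    exact ⟨2 ^ 5, by norm_num, fun Ab hA hc hn hq => LocRow.card_A5 hm D.card hA hc hn hq, fun _ => h1⟩
  | D6 =>
    obtain ⟨h1, h2⟩ := Numb.card_D6 D.rgd D.card (i := 4) (Or.inl rfl)
    have hw := w_eq C D h2
    subst hw
    exact ⟨2 ^ 10, by norm_num, fun Ab hA hc hn hq => LocRow.card_D6 hm D.card hA hc hn hq, fun h0 => by omega⟩
  | D6' =>
    obtain ⟨h1, h2⟩ := Numb.card_D6 D.rgd D.card (i := 5) (Or.inr rfl)
    have hw := w_eq C D h2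
    subst hw
    exact ⟨2 ^ 10, by norm_num, fun Ab hA hc hn hq => LocRow.card_D6p hm D.card hA hc hn hq, fun h0 => by omega⟩
  | E7 =>
    obtain ⟨h1, h2⟩ := Numb.card_E7 D.rgd D.card
    have hw := w_eq C D h2
    subst hw
    exact ⟨2 ^ 17, by norm_num, fun Ab hA hc hn hq => LocRow.card_E7 hm D.card hA hc hn hq, fun h0 => by omega⟩
  | C3 =>
    obtain ⟨h1, h2⟩ := Numb.card_B3 D.rgd D.card
    have hw := w_eq C D h2
    subst hw
    exact ⟨2 ^ 5, by norm_num, fun Ab hA hc hn hq => CThree.card_le hm D.card hA hc hn hq, fun _ => h1⟩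

/-- **The closing theorem.** -/
theorem loc_le (hG : Cfsg.IsCharacteristicTwoType G)
    (C : Cfg (p.H.subtype : p.H →* (p.lz.V ≃ₗ[ZMod 2] p.lz.V)) p.lz.b p.lz.q p.va p.D (p.X.subgroupOf p.H) w)
    (hall : ∀ (A'' : Subgroup G) (a'' : G) (p' : Pair Q z A'' a''), ∃ w' : ℕ,
      Cfg (p'.H.subtype : p'.H →* (p'.lz.V ≃ₗ[ZMod 2] p'.lz.V)) p'.lz.b p'.lz.q p'.va p'.D (p'.X.subgroupOf p'.H) w')
    (D : At p q i h L T n X) (S : Sylow 2 G) (hS : (S : Subgroup G) ≤ Subgroup.centralizer ({z} : Set G))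
    {M' : Subgroup G} (hM : IsLoc (S : Subgroup G) M') :
    M' ≤ Subgroup.normalizer ((A ⊔ MM p L : Subgroup G) : Set G) := by
  have := finite_H (p := p)
  have := D.fin
  by_contra hcon
  have hC := QQ.centralizer_le' D
  obtain ⟨m, -, V, o, hVS, hVn⟩ := OutLoc.exists_out hG p.lz (QQ.hadj D hall) hC S hS hM hcon
  obtain ⟨b, hb, hbd, hU⟩ := bound C D
  have hVz : V ≤ Subgroup.centralizer ({z} : Set G) := hVS.trans hS
  -- `|[V, s]| ≠ 4`
  have h4 : Nat.card o.two.symm.W ≠ 4 := by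
    intro h4
    by_cases hw : w = 10
    · exact four_ten C D hw (hU hw) o h4
    · -- then also `|[Q/z, s]| = 4`
      have h5 : Nat.card o.two.W = 4 := by
        rcases LargeExtra.CC.Two.main o.two with h6 | h6
        · exact h6
        · exfalso
          have h7 : Nat.card (o.two.symm.lr.V) = 2 ^ (2 * w) := by
            have e1 := o.two.symm.lr.card_eq
            have e2 := o.lz.card_eq
            have e3 : Nat.card (Quad.cj m Q) = Nat.card Q :=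
              (Nat.card_congr (Q.equivMapOfInjective _ (MulAut.conj m).injective).toEquiv).symm
            have e4 : Nat.card o.lz.V = 2 ^ (2 * w) := C.card_V
            omega
          rw [h4, h7] at h6
          have h8 : 2 ^ 10 ≤ 2 ^ (2 * w) := Nat.pow_le_pow_right (by norm_num) (by have := C.five; omega)
          omega
      let c : Subgroup.centralizer ({z} : Set G) :=
        ⟨m * z * m⁻¹, Subgroup.mem_centralizer_singleton_iff.2 o.two.comm⟩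
      refine NoFour.no_four C D hw (c := aH p c) ?_ (W := o.two.W) ?_ h5
      · rw [← map_mul]
        have : c * c = 1 := Subtype.ext (by
          show m * z * m⁻¹ * (m * z * m⁻¹) = 1
          have e : m * z * m⁻¹ * (m * z * m⁻¹) = m * (z * z) * m⁻¹ := by group
          rw [e, p.lz.z_sq]; group)
        rw [this, map_one]
      · intro x
        exact Iff.rfl
  have h5 := o.main h4
  -- the image of `V`
  let P : Sylow 2 p.H := (S.subtype hS).mapSurjective (aH_surj p)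
  have hP : ∀ x : p.H, x ∈ (P : Subgroup p.H) ↔ x ∈ img p (S : Subgroup G) := fun x => Iff.rfl
  have hbnd := quad_gen D hbd P (A1 := img p V) ?_ ?_ ?_ ?_
  · have h6 := card_img (p := p) hVz
    rw [h6] at hbnd
    have h7 := index_le C D
    have h8 : Nat.card o.lz.V = 2 ^ (2 * w) := C.card_V
    rw [h8] at h5
    set r := Q.relIndex V
    have h9 : r ≤ 2 * b := hbnd.trans (Nat.mul_le_mul_right _ h7)
    have h10 : r * 16 ≤ 2 ^ w := (Nat.mul_le_mul_right _ h9).trans hb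
    have h11 : (r * 16) * (r * 16) ≤ 2 ^ w * 2 ^ w := Nat.mul_le_mul h10 h10
    have h12 : (2 : ℕ) ^ (2 * w) = 2 ^ w * 2 ^ w := by rw [two_mul, pow_add]
    have h13 : 0 < 2 ^ w * 2 ^ w := by positivity
    rw [h12] at h5
    have h14 : (r * 16) * (r * 16) = 256 * (r * r) := by ring
    rw [h14] at h11
    omega
  · intro x hx
    rw [hP]
    obtain ⟨g, hg, hgV, rfl⟩ := mem_img.1 hx
    exact mem_img.2 ⟨g, hg, hVS hgV, rfl⟩
  · intro x hx y hy
    obtain ⟨g, hg, hgV, rfl⟩ := mem_img.1 hx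
    obtain ⟨k, hk, hkV, rfl⟩ := mem_img.1 hy
    rw [← map_mul, ← map_mul]
    congr 1
    exact Subtype.ext (o.comm g hgV k hkV)
  · intro g hg x hx
    rw [hP] at hg
    obtain ⟨s, hs, hsS, rfl⟩ := mem_img.1 hg
    obtain ⟨k, hk, hkV, rfl⟩ := mem_img.1 hx
    exact mem_img.2 ⟨s * k * s⁻¹, mul_mem (mul_mem hs hk) (inv_mem hs), hVn s hsS k hkV, by
      rw [← map_inv, ← map_mul, ← map_mul]; rfl⟩
  · intro x hx y hy v
    obtain ⟨g, hg, hgV, rfl⟩ := mem_img.1 hx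
    obtain ⟨k, hk, hkV, rfl⟩ := mem_img.1 hy
    obtain ⟨⟨u, hu⟩, rfl⟩ := p.lz.pr_surjective v
    have h6 : ((aH p ⟨k, hk⟩ : p.H) : p.lz.V ≃ₗ[ZMod 2] p.lz.V) (p.lz.pr ⟨u, hu⟩) + p.lz.pr ⟨u, hu⟩ =
        p.lz.pr ⟨k * u * k⁻¹ * u, mul_mem (p.lz.conj_mem k (Subgroup.mem_centralizer_singleton_iff.1 hk) u hu) hu⟩ := by
      rw [aH_coe, p.lz.act_pr, ← p.lz.pr_mul]
      congr 1
    rw [h6, aH_coe, p.lz.act_pr]
    rw [p.lz.pr_eq_pr, p.lz.conjQ_coe]
    left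
    show g * (k * u * k⁻¹ * u) * g⁻¹ = k * u * k⁻¹ * u
    -- `k u k⁻¹ u = k (u k⁻¹ u⁻¹) u²`
    have h7 : u * k⁻¹ * u⁻¹ ∈ V := o.norm u hu _ (inv_mem hkV)
    have h8 : k * u * k⁻¹ * u = (k * (u * k⁻¹ * u⁻¹)) * (u * u) := by group
    have h9 : k * (u * k⁻¹ * u⁻¹) ∈ V := mul_mem hkV h7
    have h10 := o.comm g hgV _ h9
    have h11 : g * (u * u) = (u * u) * g := by
      rcases p.lz.sq u hu with h12 | h12
      · rw [h12, one_mul, mul_one]
      · rw [h12]; exact Subgroup.mem_centralizer_singleton_iff.1 hg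
    rw [h8]
    calc g * (k * (u * k⁻¹ * u⁻¹) * (u * u)) * g⁻¹ = (g * (k * (u * k⁻¹ * u⁻¹))) * (u * u) * g⁻¹ := by group
      _ = (k * (u * k⁻¹ * u⁻¹)) * (g * (u * u)) * g⁻¹ := by rw [h10]; group
      _ = _ := by rw [h11]; group

end Cfsg.Agent.Omega.EH3Close.Closing

end
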